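import Groth.Agent.PicRep.Small
import Groth.Agent.LineDesc.RelPic
import Mathlib.AlgebraicGeometry.Sites.SmallAffineZariski
import Mathlib.CategoryTheory.Sites.Over

/-!
# The rigidified Picard functor, as a small Zariski sheaf
-/

set_option autoImplicit false
set_option maxHeartbeats 1600000
set_option linter.style.haveILetI false
set_option backward.isDefEq.respectTransparency false
set_option backward.isDefEq.respectTransparency.types false

universe u

open CategoryTheory CategoryTheory.Limits AlgebraicGeometry TopologicalSpace Opposite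

noncomputable section

namespace Groth.Agent.PicRep

open Groth.Agent Groth.Agent.LineDesc.Rig
open Groth.Agent.JacVarLib (InvU Pc pullPc pullPc_val pullPc_comp ext_val)
open scoped Groth.Agent.H23.PicMul

theorem pullPc_id {Y : Scheme.{u}} (v : Pc Y) : pullPc (𝟙 Y) v = v :=
  ext_val (PicClLib.pullCl_id v.1.val)

theorem isUnit_of_invertible {Y : Scheme.{u}} {c : PicF.Cl Y} (hc : PicF.IsInvertibleCl c) : IsUnit c := by
  obtain ⟨L, rfl, hL⟩ := hc
  exact H23.PicMul.isUnit_cl hL

/-- An invertible class as an element of the Picard group. -/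
def toPc {Y : Scheme.{u}} (c : PicF.Cl Y) (hc : PicF.IsInvertibleCl c) : Pc Y :=
  ⟨(isUnit_of_invertible hc).unit, by
    show PicF.IsInvertibleCl _
    rw [IsUnit.unit_spec]; exact hc⟩

theorem toPc_val {Y : Scheme.{u}} (c : PicF.Cl Y) (hc : PicF.IsInvertibleCl c) : (toPc c hc).1.val = c :=
  IsUnit.unit_spec _

variable {X S : Scheme.{u}} (f : X ⟶ S) (σ : S ⟶ X) (hσ : σ ≫ f = 𝟙 S)

/-- The classes trivial along the section. -/
def RP (T : Over S) : Subgroup (Pc (PicF.XT f T)) := (pullPc (PicF.secT f σ hσ T)).ker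

variable {f σ hσ}

theorem mem_RP {T : Over S} {v : Pc (PicF.XT f T)} :
    v ∈ RP f σ hσ T ↔ pullPc (PicF.secT f σ hσ T) v = 1 := Iff.rfl

theorem pullPc_secT {T T' : Over S} (g : T' ⟶ T) (v : Pc (PicF.XT f T)) :
    pullPc (PicF.secT f σ hσ T') (pullPc (PicF.XTmap f g) v) = pullPc g.left (pullPc (PicF.secT f σ hσ T) v) := by
  rw [pullPc_comp, secT_XTmap, ← pullPc_comp]

theorem pull_mem_RP {T T' : Over S} (g : T' ⟶ T) {v : Pc (PicF.XT f T)} (hv : v ∈ RP f σ hσ T) :
    pullPc (PicF.XTmap f g) v ∈ RP f σ hσ T' := by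
  rw [mem_RP, pullPc_secT, mem_RP.1 hv, map_one]

theorem pullPc_secT_proj {T : Over S} (m : Pc T.left) :
    pullPc (PicF.secT f σ hσ T) (pullPc (PicF.XTproj f T) m) = m := by
  rw [pullPc_comp, secT_snd, pullPc_id]

variable (f σ hσ) in
/-- Rigidification. -/
def rho {T : Over S} (v : Pc (PicF.XT f T)) : Pc (PicF.XT f T) :=
  v * (pullPc (PicF.XTproj f T) (pullPc (PicF.secT f σ hσ T) v))⁻¹

theorem rho_mem {T : Over S} (v : Pc (PicF.XT f T)) : rho f σ hσ v ∈ RP f σ hσ T := by
  rw [mem_RP, rho, map_mul, map_inv, pullPc_secT_proj, mul_inv_cancel]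

theorem rho_eq_self {T : Over S} {v : Pc (PicF.XT f T)} (hv : v ∈ RP f σ hσ T) : rho f σ hσ v = v := by
  rw [rho, mem_RP.1 hv, map_one, inv_one, mul_one]

theorem rho_mul_base {T : Over S} (v : Pc (PicF.XT f T)) (m : Pc T.left) :
    rho f σ hσ (v * pullPc (PicF.XTproj f T) m) = rho f σ hσ v := by
  rw [rho, rho, map_mul (pullPc (PicF.secT f σ hσ T)), pullPc_secT_proj, map_mul]
  group

theorem pull_rho {T T' : Over S} (g : T' ⟶ T) (v : Pc (PicF.XT f T)) :
    pullPc (PicF.XTmap f g) (rho f σ hσ v) = rho f σ hσ (pullPc (PicF.XTmap f g) v) := by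
  rw [rho, rho, map_mul, map_inv, pullPc_secT, pullPc_comp, pullPc_comp (PicF.XTproj f T') g.left, XTmap_snd]

/-- Equivalence modulo the base. -/
theorem rho_eq_iff {T : Over S} {v w : Pc (PicF.XT f T)} :
    rho f σ hσ v = rho f σ hσ w ↔ ∃ m : Pc T.left, v = w * pullPc (PicF.XTproj f T) m := by
  constructor
  · intro h
    refine ⟨(pullPc (PicF.secT f σ hσ T) w)⁻¹ * pullPc (PicF.secT f σ hσ T) v, ?_⟩
    rw [map_mul, map_inv, ← mul_assoc]
    change v = rho f σ hσ w * _
    rw [← h, rho]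
    group
  · rintro ⟨m, rfl⟩
    exact rho_mul_base w m

theorem toPc_mem_RP {T : Over S} (c : PicF.Rig f σ hσ T) : toPc c.1 c.2.1 ∈ RP f σ hσ T := by
  refine mem_RP.2 (ext_val ?_)
  rw [pullPc_val, toPc_val]
  exact c.2.2

/-- The rigidified class of an element. -/
def toRig {T : Over S} (v : RP f σ hσ T) : PicF.Rig f σ hσ T :=
  ⟨v.1.1.val, v.1.2, (pullPc_val _ v.1).symm.trans (congrArg (fun z : Pc T.left => z.1.val) (mem_RP.1 v.2))⟩

theorem toRig_injective {T : Over S} : Function.Injective (toRig (f := f) (σ := σ) (hσ := hσ) (T := T)) :=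
  fun v w h => Subtype.ext (ext_val (congrArg Subtype.val h))

instance small_RP (T : Over S) : Small.{u} (RP f σ hσ T) := by
  haveI := small_invertibleCl (PicF.XT f T)
  refine small_of_injective (f := fun v : RP f σ hσ T => (⟨v.1.1.val, v.1.2⟩ : {c : PicF.Cl (PicF.XT f T) //
    PicF.IsInvertibleCl c})) fun v w h => Subtype.ext (ext_val (congrArg Subtype.val h))

variable (f σ hσ) in
/-- The rigidified Picard functor, with values in small types. -/
def funct : (Over S)ᵒᵖ ⥤ Type u where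
  obj T := Shrink.{u} (RP f σ hσ T.unop)
  map {T T'} g := TypeCat.ofHom fun x => equivShrink (RP f σ hσ T'.unop)
    ⟨_, pull_mem_RP g.unop ((equivShrink (RP f σ hσ T.unop)).symm x).2⟩
  map_id T := by
    refine ConcreteCategory.hom_ext _ _ fun x => ?_
    refine (Equiv.apply_eq_iff_eq_symm_apply _).2 (Subtype.ext ?_)
    show pullPc (PicF.XTmap f (𝟙 T.unop)) ((equivShrink (RP f σ hσ T.unop)).symm x).1 = _
    rw [XTmap_id, pullPc_id]
    rfl
  map_comp {T T' T''} g h := by
    refine ConcreteCategory.hom_ext _ _ fun x => ?_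
    refine congrArg (equivShrink (RP f σ hσ T''.unop)) (Subtype.ext ?_)
    show pullPc (PicF.XTmap f (h.unop ≫ g.unop)) _ = pullPc (PicF.XTmap f h.unop) _
    rw [← XTmap_comp, ← pullPc_comp]
    refine congrArg (pullPc (PicF.XTmap f h.unop)) ?_
    exact (congrArg Subtype.val ((equivShrink (RP f σ hσ T'.unop)).symm_apply_apply
      ⟨_, pull_mem_RP g.unop ((equivShrink (RP f σ hσ T.unop)).symm x).2⟩)).symm

/-- The class underlying an element of the functor. -/
def val {T : Over S} (x : (funct f σ hσ).obj (op T)) : Pc (PicF.XT f T) :=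
  ((equivShrink (RP f σ hσ T)).symm x).1

theorem val_mem {T : Over S} (x : (funct f σ hσ).obj (op T)) : val x ∈ RP f σ hσ T :=
  ((equivShrink (RP f σ hσ T)).symm x).2

theorem val_injective {T : Over S} : Function.Injective (val (f := f) (σ := σ) (hσ := hσ) (T := T)) :=
  fun _ _ h => (equivShrink (RP f σ hσ T)).symm.injective (Subtype.ext h)

theorem val_map {T T' : Over S} (g : T' ⟶ T) (x : (funct f σ hσ).obj (op T)) :
    val ((funct f σ hσ).map g.op x) = pullPc (PicF.XTmap f g) (val x) :=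
  congrArg Subtype.val ((equivShrink (RP f σ hσ T')).symm_apply_apply _)

/-- An element of the functor from a rigidified class. -/
def elt {T : Over S} (v : Pc (PicF.XT f T)) (hv : v ∈ RP f σ hσ T) : (funct f σ hσ).obj (op T) :=
  equivShrink (RP f σ hσ T) ⟨v, hv⟩

theorem val_elt {T : Over S} (v : Pc (PicF.XT f T)) (hv : v ∈ RP f σ hσ T) : val (elt v hv) = v :=
  congrArg Subtype.val ((equivShrink (RP f σ hσ T)).symm_apply_apply _)

variable (ha : ∀ (Z : Scheme.{u}) (z : Z ⟶ S), Function.Bijective (pullback.snd f z).appTop)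

include ha in
/-- Rigidified classes form a Zariski sheaf. -/
theorem isSheaf_funct : Presheaf.IsSheaf (Scheme.zariskiTopology.over S) (funct f σ hσ) := by
  rw [isSheaf_iff_isSheaf_of_type]
  intro T R hR
  rw [GrothendieckTopology.mem_over_iff] at hR
  obtain ⟨R', hR', hle⟩ := Precoverage.mem_toGrothendieck_iff_of_isStableUnderComposition.1 hR
  obtain ⟨(𝒰₀ : Scheme.OpenCover T.left), rfl⟩ := Scheme.exists_cover_of_mem_pretopology hR'
  intro x hx
  let Ui : T.left → Scheme.{u} := fun t => 𝒰₀.X (Scheme.Cover.idx 𝒰₀ t)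
  let ui : ∀ t, Ui t ⟶ T.left := fun t => 𝒰₀.f (Scheme.Cover.idx 𝒰₀ t)
  have hR : ∀ t, R (AbDual.ovrHom T (ui t)) := fun t =>
    (Sieve.overEquiv_iff R (ui t)).1 (hle _ _ (Presieve.ofArrows.mk _))
  have hmem : ∀ t, t ∈ Set.range (ui t) := fun t => Scheme.Cover.covers 𝒰₀ t
  haveI hflat : ∀ t, Flat (ui t) := fun t => inferInstanceAs (Flat (𝒰₀.f _))
  haveI hlfp : ∀ t, LocallyOfFinitePresentation (ui t) := fun t =>
    inferInstanceAs (LocallyOfFinitePresentation (𝒰₀.f _))
  haveI : Flat (Sigma.desc ui) := IsZariskiLocalAtSource.sigmaDesc (P := @Flat) hflat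
  haveI : LocallyOfFinitePresentation (Sigma.desc ui) :=
    IsZariskiLocalAtSource.sigmaDesc (P := @LocallyOfFinitePresentation) hlfp
  haveI : Surjective (Sigma.desc ui) := ⟨fun t => by
    obtain ⟨y, hy⟩ := hmem t
    exact ⟨Sigma.ι Ui t y, by rw [← Scheme.Hom.comp_apply, colimit.ι_desc]; exact hy⟩⟩
  let d : ∀ t, Pc (PicF.XT f (AbDual.ovr T (ui t))) := fun t => val (x (AbDual.ovrHom T (ui t)) (hR t))
  obtain ⟨M, hM, hMd⟩ := LineDesc.exists_invertible_of_disjoint (fun t => PicF.XTmap f (pieceι ui t))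
    (cover_pieces ui) (disjoint_pieces ui) (fun t => (d t).1.val) (fun t => (d t).2)
  let V := rho f σ hσ (toPc (PicF.cl M) ⟨M, rfl, hM⟩)
  have hVd : ∀ t, pullPc (PicF.XTmap f (pieceι ui t)) V = d t := fun t => by
    rw [pull_rho, show pullPc (PicF.XTmap f (pieceι ui t)) (toPc (PicF.cl M) ⟨M, rfl, hM⟩) = d t from
      ext_val (by rw [pullPc_val, toPc_val]; exact hMd t)]
    exact rho_eq_self (val_mem _)
  have hglue : PicF.pullCl (PicF.XTmap f (p1 (Sigma.desc ui))) V.1.val =
      PicF.pullCl (PicF.XTmap f (p2 (Sigma.desc ui))) V.1.val := by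
    obtain ⟨L, hL, hLi⟩ := V.2
    rw [← hL]
    refine LineDesc.cl_eq_of_disjoint (fun q => PicF.XTmap f (piece₂ ui q)) (cover_pieces₂ ui) (disjoint_pieces₂ ui)
      (L := (Scheme.Modules.pullback (PicF.XTmap f (p1 (Sigma.desc ui)))).obj L)
      (M := (Scheme.Modules.pullback (PicF.XTmap f (p2 (Sigma.desc ui)))).obj L) fun q => ?_
    show PicF.pullCl _ (PicF.pullCl _ (PicF.cl L)) = PicF.pullCl _ (PicF.pullCl _ (PicF.cl L))
    rw [hL, ← pullPc_val, ← pullPc_val, ← pullPc_val, ← pullPc_val, pullPc_comp, pullPc_comp,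
      XTmap_comp, XTmap_comp, piece₂_p1, piece₂_p2, ← XTmap_comp, ← XTmap_comp, ← pullPc_comp, ← pullPc_comp, hVd, hVd]
    let g₁ := AbDual.ovrHom (AbDual.ovr T (ui q.1)) (pullback.fst (ui q.1) (ui q.2))
    have e := congrArg val (hx g₁ (piece₂snd ui q) (hR q.1) (hR q.2) (Over.OverMorphism.ext pullback.condition))
    rw [val_map, val_map] at e
    exact congrArg (fun z : Pc _ => z.1.val) e
  obtain ⟨c, hc⟩ := exists_rig ha (Sigma.desc ui) (toRig ⟨V, rho_mem _⟩) hglue
  let y : (funct f σ hσ).obj (op T) := elt (toPc c.1 c.2.1) (toPc_mem_RP c)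
  have hy : pullPc (cov (f := f) (Sigma.desc ui)) (val y) = V := by
    refine ext_val ?_
    rw [pullPc_val, val_elt, toPc_val]
    exact hc
  have hyd : ∀ t, pullPc (PicF.XTmap f (AbDual.ovrHom T (ui t))) (val y) = d t := fun t => by
    rw [← pieceι_ovrHom, ← XTmap_comp, ← pullPc_comp]
    exact (congrArg (pullPc _) hy).trans (hVd t)
  refine ⟨y, fun W w hw => val_injective ?_, fun y' hy' => val_injective ?_⟩
  · -- agreement on `W`
    rw [val_map]
    let Wi : W.left → Scheme.{u} := fun p => pullback w.left (ui (w.left p))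
    let wi : ∀ p, Wi p ⟶ W.left := fun p => pullback.fst _ _
    haveI : ∀ t, IsOpenImmersion (ui t) := fun t => inferInstanceAs (IsOpenImmersion (𝒰₀.f _))
    haveI : Flat (Sigma.desc wi) := IsZariskiLocalAtSource.sigmaDesc (P := @Flat) fun p => inferInstanceAs (Flat (pullback.fst _ _))
    haveI : LocallyOfFinitePresentation (Sigma.desc wi) :=
      IsZariskiLocalAtSource.sigmaDesc (P := @LocallyOfFinitePresentation) fun p =>
        inferInstanceAs (LocallyOfFinitePresentation (pullback.fst _ _))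
    haveI : Surjective (Sigma.desc wi) := ⟨fun p => by
      obtain ⟨y₀, hy₀⟩ := hmem (w.left p)
      obtain ⟨r, hr, -⟩ := Scheme.Pullback.exists_preimage_pullback (f := w.left) (g := ui (w.left p)) p y₀ hy₀.symm
      exact ⟨Sigma.ι Wi p r, by rw [← Scheme.Hom.comp_apply, colimit.ι_desc]; exact hr⟩⟩
    let a := pullPc (PicF.XTmap f w) (val y)
    let b := val (x w hw)
    have ha' : a ∈ RP f σ hσ W := pull_mem_RP w (val_mem y)
    suffices h : pullPc (cov (f := f) (Sigma.desc wi)) a = pullPc (cov (f := f) (Sigma.desc wi)) b from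
      congrArg Subtype.val (toRig_injective (rig_unique ha (Sigma.desc wi) (toRig ⟨a, ha'⟩) (toRig ⟨b, val_mem _⟩)
        (congrArg (fun z : Pc _ => z.1.val) h)))
    obtain ⟨La, hLa, -⟩ := (pullPc (cov (f := f) (Sigma.desc wi)) a).2
    obtain ⟨Lb, hLb, -⟩ := (pullPc (cov (f := f) (Sigma.desc wi)) b).2
    refine ext_val ?_
    rw [← hLa, ← hLb]
    refine LineDesc.cl_eq_of_disjoint (fun p => PicF.XTmap f (pieceι wi p)) (cover_pieces wi) (disjoint_pieces wi)
      fun p => ?_
    rw [hLa, hLb, ← pullPc_val, ← pullPc_val, pullPc_comp, pullPc_comp, XTmap_comp, pieceι_ovrHom]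
    let q' : AbDual.ovr W (wi p) ⟶ AbDual.ovr T (ui (w.left p)) := Over.homMk (pullback.snd _ _) (by
      show pullback.snd w.left (ui (w.left p)) ≫ ui (w.left p) ≫ T.hom = pullback.fst _ _ ≫ W.hom
      rw [← pullback.condition_assoc, Over.w w])
    have hq : AbDual.ovrHom W (wi p) ≫ w = q' ≫ AbDual.ovrHom T (ui (w.left p)) :=
      Over.OverMorphism.ext pullback.condition
    have e := congrArg val (hx (AbDual.ovrHom W (wi p)) q' hw (hR (w.left p)) hq)
    rw [val_map, val_map] at e
    refine congrArg (fun z : Pc _ => z.1.val) ?_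
    rw [XTmap_comp, hq, ← XTmap_comp, ← pullPc_comp, hyd, pullPc_comp, XTmap_comp, pieceι_ovrHom]
    exact e.symm
  · suffices h : pullPc (cov (f := f) (Sigma.desc ui)) (val y') = pullPc (cov (f := f) (Sigma.desc ui)) (val y) from
      congrArg Subtype.val (toRig_injective (rig_unique ha (Sigma.desc ui) (toRig ⟨val y', val_mem _⟩)
        (toRig ⟨val y, val_mem _⟩) (congrArg (fun z : Pc _ => z.1.val) h)))
    obtain ⟨La, hLa, -⟩ := (pullPc (cov (f := f) (Sigma.desc ui)) (val y')).2
    obtain ⟨Lb, hLb, -⟩ := (pullPc (cov (f := f) (Sigma.desc ui)) (val y)).2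
    refine ext_val ?_
    rw [← hLa, ← hLb]
    refine LineDesc.cl_eq_of_disjoint (fun p => PicF.XTmap f (pieceι ui p)) (cover_pieces ui) (disjoint_pieces ui)
      fun p => ?_
    rw [hLa, hLb, ← pullPc_val, ← pullPc_val, pullPc_comp, pullPc_comp, XTmap_comp, pieceι_ovrHom, hyd,
      ← val_map, hy' _ (hR p)]

end Groth.Agent.PicRep
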