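import Groth.Agent.PicRep.DivFam
import Groth.Agent.PicRep.Functor
import Groth.Agent.HilbFib.Basic
import Groth.Agent.DerBC7.EulerModel
import Groth.Agent.S1025

/-!
# Classes with exactly one section and no first cohomology on the fibres
-/

set_option autoImplicit false
set_option maxHeartbeats 1600000
set_option linter.style.haveILetI false
set_option linter.unusedSectionVars false
set_option backward.isDefEq.respectTransparency false
set_option backward.isDefEq.respectTransparency.types false

universe u

open CategoryTheory CategoryTheory.Limits AlgebraicGeometry TopologicalSpace Opposite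

noncomputable section

namespace Groth.Agent.PicRep

open Groth.Agent
open Groth.Agent.JacVarLib (Pc pullPc pullPc_val pullPc_comp ext_val out cl_out isInvertible_out)
open scoped Groth.Agent.H23.PicMul

variable {X S : Scheme.{u}}

/-- The Betti numbers of the fibres do not change under base change. -/
theorem betti_baseChange {E' S' : Scheme.{u}} {f : X ⟶ S} {q : E' ⟶ S'} {g : S' ⟶ S} {h : E' ⟶ X}
    (hsq : IsPullback h q f g) [IsProper f] {G : X.Modules} (hG : Coh.IsQCoh G) (t : S') (i : ℕ) :
    PerfAux.betti q ((Scheme.Modules.pullback h).obj G) t i = PerfAux.betti f G (g t) i := by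
  let α : S.residueField (g t) ⟶ S'.residueField t := g.residueFieldMap t
  have hα : Spec.map α ≫ S.fromSpecResidueField (g t) = S'.fromSpecResidueField t ≫ g :=
    g.SpecMap_residueFieldMap_fromSpecResidueField t
  letI : Algebra (S.residueField (g t)) (S'.residueField t) := α.hom.toAlgebra
  letI : (q.fiber t).Over (Spec (CommRingCat.of (S'.residueField t))) := ⟨q.fiberToSpecResidueField t⟩
  letI : (f.fiber (g t)).Over (Spec (CommRingCat.of (S.residueField (g t)))) := ⟨f.fiberToSpecResidueField (g t)⟩
  have sq : IsPullback (q.fiberι t ≫ h) (q.fiberToSpecResidueField t) f (Spec.map α ≫ S.fromSpecResidueField (g t)) := by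
    rw [hα]
    exact (IsPullback.of_hasPullback q (S'.fromSpecResidueField t)).paste_horiz hsq
  let m : q.fiber t ⟶ f.fiber (g t) :=
    pullback.lift (q.fiberι t ≫ h) (q.fiberToSpecResidueField t ≫ Spec.map α) (by rw [sq.w, Category.assoc])
  have hm : m ≫ f.fiberι (g t) = q.fiberι t ≫ h := pullback.lift_fst _ _ _
  have hpb : IsPullback m (q.fiber t ↘ Spec (CommRingCat.of (S'.residueField t)))
      (f.fiber (g t) ↘ Spec (CommRingCat.of (S.residueField (g t))))
      (Spec.map (CommRingCat.ofHom (algebraMap (S.residueField (g t)) (S'.residueField t)))) := by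
    refine IsPullback.of_right ?_ (pullback.lift_snd _ _ _) (IsPullback.of_hasPullback f _)
    rw [show m ≫ pullback.fst f (S.fromSpecResidueField (g t)) = q.fiberι t ≫ h from pullback.lift_fst _ _ _]
    exact sq
  haveI : IsProper q := MorphismProperty.of_isPullback (P := @IsProper) hsq ‹IsProper f›
  haveI : IsProper (f.fiber (g t) ↘ Spec (CommRingCat.of (S.residueField (g t)))) := HilbFib.isProper_fibre f (g t)
  haveI : IsProper (q.fiber t ↘ Spec (CommRingCat.of (S'.residueField t))) := HilbFib.isProper_fibre q t
  haveI : IsNoetherian (f.fiber (g t)) :=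
    CurveCohLib.isNoetherian_of_proper (k := S.residueField (g t)) (X := f.fiber (g t))
  exact (CurveCohLib.hhEquiv (k := S'.residueField t)
    ((Scheme.Modules.pullbackComp (q.fiberι t) h).app G ≪≫
      (Scheme.Modules.pullbackCongr hm.symm).app G ≪≫
      ((Scheme.Modules.pullbackComp m (f.fiberι (g t))).app G).symm) i).finrank_eq.trans
    (CurveBC.finrank_hh (S.residueField (g t)) (S'.residueField t) m hpb _ (QCoh.isQCoh_pullback _ hG) i)

theorem betti_congr (f : X ⟶ S) {G G' : X.Modules} (e : G ≅ G') (s : S) (i : ℕ) :
    PerfAux.betti f G s i = PerfAux.betti f G' s i :=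
  letI : (f.fiber s).Over (Spec (CommRingCat.of (S.residueField s))) := ⟨f.fiberToSpecResidueField s⟩
  (CurveCohLib.hhEquiv (k := S.residueField s) ((Scheme.Modules.pullback (f.fiberι s)).mapIso e) i).finrank_eq

theorem isFP_of_isInvertible {E : Scheme.{u}} {N : E.Modules} (hN : PicF.IsInvertible N) : CohB1.IsFP N :=
  QCoh.isFP_of_isFinLocFree fun x =>
    let ⟨U, hx, e⟩ := InvEnd.isFinLocFreeOfRank_one hN x
    ⟨U, 1, hx, e⟩

section Fam

variable {E T : Scheme.{u}} (q : E ⟶ T)

/-- The class has one section and no first cohomology on the fibre. -/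
def Good (v : Pc E) (t : T) : Prop :=
  PerfAux.eulerChar q (out v) t = 1 ∧ PerfAux.betti q (out v) t 1 = 0

variable [IsProper q]

theorem eulerChar_cl {v : Pc E} {N : E.Modules} (h : PicF.cl N = v.1.val) (t : T) :
    PerfAux.eulerChar q (out v) t = PerfAux.eulerChar q N t :=
  HilbFib.χ_congr q (H23.PicMul.cl_eq_iff.1 ((cl_out v).trans h.symm)).some t

theorem betti_cl {v : Pc E} {N : E.Modules} (h : PicF.cl N = v.1.val) (t : T) (i : ℕ) :
    PerfAux.betti q (out v) t i = PerfAux.betti q N t i :=
  betti_congr q (H23.PicMul.cl_eq_iff.1 ((cl_out v).trans h.symm)).some t i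

variable [SmoothOfRelativeDimension 1 q] [GeometricallyConnected q]

attribute [local instance] GenusOneX.fibreOver GenusOneX.flat_of_family GenusOneX.lfp_of_family

theorem isOpen_good (v : Pc E) : IsOpen {t | Good q v t} := by
  have hv := isInvertible_out v
  have h1 := S1025.result q (out v) (isFP_of_isInvertible hv) (H23.Seesaw.isFlatOver_of_isInvertible q hv) 1 1
  have h2 := (DerBC7.isLocallyConstant_eulerChar (f := q) (ProjUPX.isQCoh_of_isInvertible hv) (isFP_of_isInvertible hv)
    (H23.Seesaw.isFlatOver_of_isInvertible q hv)).isOpen_fiber 1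
  have : {t | Good q v t} = {t | PerfAux.eulerChar q (out v) t = 1} ∩ {t | PerfAux.betti q (out v) t 1 < 1} :=
    Set.ext fun t => by simp [Good]
  rw [this]
  exact h2.inter h1

/-- The open locus of good fibres. -/
def goodLocus (v : Pc E) : T.Opens := ⟨_, isOpen_good q v⟩

theorem betti_zero_of_good {v : Pc E} {t : T} (h : Good q v t) : PerfAux.betti q (out v) t 0 = 1 := by
  haveI := GenusOneX.fibre_isProper q t
  haveI := GenusOneX.fibre_isIntegral q t
  have he := CurveRR.euler_eq_h0_sub_h1 (T.residueField t) (GenusOneX.fibre_dim q t).le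
    (M := (Scheme.Modules.pullback (q.fiberι t)).obj (out v))
    (QCoh.isQCoh_pullback _ (ProjUPX.isQCoh_of_isInvertible (isInvertible_out v)))
  have h1 : HilbFib.χ q (out v) t = 1 := h.1
  have h2 := h.2
  change HilbFib.χ q (out v) t =
    (PerfAux.betti q (out v) t 0 : ℤ) - (PerfAux.betti q (out v) t 1 : ℤ) at he
  omega

theorem hasOneSection_of_good {v : Pc E} (h : ∀ t, Good q v t) : HasOneSection q (out v) := by
  refine ⟨isInvertible_out v, fun t => betti_zero_of_good q (h t), fun t => ?_⟩
  have hv := isInvertible_out v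
  haveI := GenusOneX.fibre_isProper q t
  haveI := CurveCohLib.isNoetherian_of_proper (k := T.residueField t) (X := q.fiber t)
  have hsub : Subsingleton (CohIII.fiberH q (out v) t 1) := by
    haveI := CurveCohLib.finite_HH (k := T.residueField t) (X := q.fiber t)
      (CurveDeg.isCoh_of_isInvertible (PicClLib.isInvertible_pullback (q.fiberι t) hv)) 1
    exact Module.finrank_zero_iff.1 (h t).2
  exact (CohPullLib.vanAt_of_subsingleton (ProjUPX.isQCoh_of_isInvertible hv) (isFP_of_isInvertible hv)
    (H23.Seesaw.isFlatOver_of_isInvertible q hv) 1 hsub).exchAt_pred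

end Fam

end Groth.Agent.PicRep
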