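import Groth.Agent.PicRep.Jac
import Groth.Agent.JacVarLib.Points
import Groth.Agent.S12407
import Groth.Prelude.Def_Jac

/-!
# Any Jacobian represents the rigidified degree zero Picard functor
-/

set_option autoImplicit false
set_option maxHeartbeats 1600000
set_option linter.style.haveILetI false
set_option linter.unusedSectionVars false
set_option backward.isDefEq.respectTransparency false
set_option backward.isDefEq.respectTransparency.types false

universe u

open CategoryTheory CategoryTheory.Limits AlgebraicGeometry TopologicalSpace Opposite MonoidalCategory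
  CartesianMonoidalCategory MonObj

noncomputable section

namespace Groth.Agent.PicRep

open Groth.Agent
open Groth.Agent.JacVarLib (InvU Pc pullPc pullPc_val pullPc_comp ext_val out cl_out isInvertible_out dg)
open scoped Groth.Agent.H23.PicMul

attribute [local instance] Jacobian.curveOver GenusOneX.fibreOver GenusOneX.flat_of_family GenusOneX.lfp_of_family

section Fam

variable {X S : Scheme.{u}} (f : X ⟶ S) [IsProper f] [SmoothOfRelativeDimension 1 f] [GeometricallyConnected f]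

/-- The degree of a fibre at a geometric point. -/
theorem fibDeg_iff {T : Over S} {E : (PicF.XT f T).Modules} (hE : PicF.IsInvertible E) :
    ModFun.FibDeg f 1 0 T E ↔ toPc (PicF.cl E) ⟨E, rfl, hE⟩ ∈ PZ f T := by
  have key : ∀ (Ω : Type u) [Field Ω] [IsAlgClosed Ω] (t : Spec (CommRingCat.of Ω) ⟶ T.left),
      Curv2.deg Ω (PicF.XT f (Over.mk (t ≫ T.hom)))
          ((Scheme.Modules.pullback (PicF.XTmap f (Over.homMk t rfl : Over.mk (t ≫ T.hom) ⟶ T))).obj E) 1 =
        DegData.deg f T (toPc (PicF.cl E) ⟨E, rfl, hE⟩).1.val (t (IsLocalRing.closedPoint Ω)) := by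
    intro Ω _ _ t
    let g : Over.mk (t ≫ T.hom) ⟶ T := Over.homMk t rfl
    have h : DegData.deg f T (toPc (PicF.cl E) ⟨E, rfl, hE⟩).1.val (g.left (IsLocalRing.closedPoint Ω)) =
        dg Ω (pullPc (PicF.XTmap f g) (toPc (PicF.cl E) ⟨E, rfl, hE⟩)) := by
      rw [← deg_pullPc g]
      exact deg_eq_dg f (t ≫ T.hom) _ _
    refine Eq.trans ?_ h.symm
    obtain ⟨e⟩ := H23.PicMul.cl_eq_iff.1
      (show PicF.cl ((Scheme.Modules.pullback (PicF.XTmap f g)).obj E) =
        PicF.cl (out (pullPc (PicF.XTmap f g) (toPc (PicF.cl E) ⟨E, rfl, hE⟩))) by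
        rw [cl_out, pullPc_val, toPc_val]; rfl)
    exact CurveRR.deg_congr Ω (X := PicF.XT f (Over.mk (t ≫ T.hom))) e 1
  rw [mem_PZ]
  refine ⟨fun h t => ?_, fun h Ω _ _ t => (key Ω t).trans (h _)⟩
  obtain ⟨Ω, _, _, τ, g, rfl⟩ := exists_geom t
  exact (key Ω g.left).symm.trans (h Ω g.left)

/-- Admissible families of degree zero. -/
theorem ok_iff {T : Over S} {E : (PicF.XT f T).Modules} :
    (ModFun.PicDeg f 0).ok T E ↔ AbDual.IsPicZeroCl f T (PicF.cl E) := by
  constructor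
  · intro h
    have hE : PicF.IsInvertible E := CurveDuality.isInvertible_of_rank_one h.1.2
    have h2 := isPicZeroCl_of_mem ((fibDeg_iff f hE).1 h.2)
    rwa [toPc_val] at h2
  · intro h
    obtain ⟨L, hL, hLi, -⟩ := id h
    obtain ⟨e⟩ := H23.PicMul.cl_eq_iff.1 hL
    have hE : PicF.IsInvertible E := H23.PicMul.isInvertible_of_iso e hLi
    refine ⟨⟨trivial, InvEnd.isFinLocFreeOfRank_one hE⟩, (fibDeg_iff f hE).2 (mem_PZ.2 ?_)⟩
    rw [toPc_val]
    exact ((Jacobian.isPicZeroCl_iff f).1 h).2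

theorem toPc_of_r {T : Over S} {E E' : (PicF.XT f T).Modules} (hE : PicF.IsInvertible E) (hE' : PicF.IsInvertible E')
    (h : (ModFun.PicDeg f 0).r T E E') :
    ∃ m : Pc T.left, toPc (PicF.cl E') ⟨E', rfl, hE'⟩ = toPc (PicF.cl E) ⟨E, rfl, hE⟩ * pullPc (PicF.XTproj f T) m := by
  obtain ⟨M, hM, ⟨e⟩⟩ := h
  refine ⟨toPc (PicF.cl M) ⟨M, rfl, hM⟩, ext_val ?_⟩
  show _ = (toPc (PicF.cl E) ⟨E, rfl, hE⟩).1.val * (pullPc (PicF.XTproj f T) _).1.val
  rw [pullPc_val, toPc_val, toPc_val, toPc_val]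
  exact (H23.PicMul.cl_eq_iff.2 ⟨e⟩).trans (H23.PicMul.cl_tensor _ _)

theorem r_of_toPc {T : Over S} {E E' : (PicF.XT f T).Modules} (hE : PicF.IsInvertible E) (hE' : PicF.IsInvertible E')
    (m : Pc T.left)
    (h : toPc (PicF.cl E') ⟨E', rfl, hE'⟩ = toPc (PicF.cl E) ⟨E, rfl, hE⟩ * pullPc (PicF.XTproj f T) m) :
    (ModFun.PicDeg f 0).r T E E' := by
  refine ⟨out m, isInvertible_out m, H23.PicMul.cl_eq_iff.1 (Eq.trans ?_ (H23.PicMul.cl_tensor _ _).symm)⟩
  have h' := congrArg (fun z : Pc _ => z.1.val) h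
  simp only [toPc_val] at h'
  refine h'.trans ?_
  show (toPc (PicF.cl E) ⟨E, rfl, hE⟩).1.val * (pullPc (PicF.XTproj f T) m).1.val = _
  rw [pullPc_val, toPc_val, ← cl_out m]
  rfl

variable {f} {σ : S ⟶ X} {hσ : σ ≫ f = 𝟙 S} {J : Over S} (r : (funct0 f σ hσ).RepresentableBy J)

theorem invertible_of_ok {T : Over S} {E : (PicF.XT f T).Modules} (h : (ModFun.PicDeg f 0).ok T E) : PicF.IsInvertible E :=
  CurveDuality.isInvertible_of_rank_one h.1.2

theorem val0_phi0_cl {T : Over S} {E : (PicF.XT f T).Modules} (h : (ModFun.PicDeg f 0).ok T E) :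
    val0 (r.homEquiv (phi0 r T (PicF.cl E))) = rho f σ hσ (toPc (PicF.cl E) ⟨E, rfl, invertible_of_ok h⟩) :=
  val0_phi0 r ((ok_iff f).1 h)

/-- The classifying map of a representing scheme. -/
def psi0 : (ModFun.PicDeg f 0).Hom ⊤ J where
  app T E _ _ := phi0 r T (PicF.cl E)
  natural {T T'} g E _ _ hE _ := (isRelPicZero r).natural T T' g (PicF.cl E) ((ok_iff f).1 hE)
  resp {T} E E' _ hE hE' h := by
    refine r.homEquiv.injective (val0_injective ?_)
    rw [val0_phi0_cl r hE, val0_phi0_cl r hE']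
    obtain ⟨m, hm⟩ := toPc_of_r f (invertible_of_ok hE) (invertible_of_ok hE') h
    rw [hm, rho_mul_base]

/-- The universal module. -/
def uMod : (PicF.XT f J).Modules := out (val0 (r.homEquiv (𝟙 J)))

theorem toPc_uMod (h : PicF.IsInvertibleCl (PicF.cl (uMod r))) :
    toPc (PicF.cl (uMod r)) h = val0 (r.homEquiv (𝟙 J)) :=
  ext_val (by rw [toPc_val]; exact cl_out _)

theorem ok_uMod : (ModFun.PicDeg f 0).ok J (uMod r) :=
  (ok_iff f).2 (by rw [uMod, cl_out]; exact isPicZeroCl_of_mem (val0_mem _).2)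

theorem ok_pull_uMod {T : Over S} (g : T ⟶ J) : (ModFun.PicDeg f 0).ok T ((ModFun.PicDeg f 0).pull g (uMod r)) :=
  (ok_iff f).2 (Jacobian.isPicZeroCl_pull f g ((ok_iff f).1 (ok_uMod r)))

theorem psi0_uMod : (psi0 r).app J (uMod r) trivial (ok_uMod r) = 𝟙 J := by
  refine r.homEquiv.injective (val0_injective ?_)
  show val0 (r.homEquiv (phi0 r J (PicF.cl (uMod r)))) = _
  rw [val0_phi0_cl r (ok_uMod r), toPc_uMod]
  exact rho_eq_self (val0_mem _).1

theorem psi0_pull {T : Over S} (g : T ⟶ J) :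
    (psi0 r).app T ((ModFun.PicDeg f 0).pull g (uMod r)) trivial (ok_pull_uMod r g) = g := by
  rw [(psi0 r).natural g (uMod r) trivial trivial (ok_uMod r), psi0_uMod, Category.comp_id]

theorem r_pull {T : Over S} {E : (PicF.XT f T).Modules} (hE : (ModFun.PicDeg f 0).ok T E) :
    (ModFun.PicDeg f 0).r T E ((ModFun.PicDeg f 0).pull (phi0 r T (PicF.cl E)) (uMod r)) := by
  have h2 := psi0_pull r (phi0 r T (PicF.cl E))
  have h3 : val0 (r.homEquiv (phi0 r T (PicF.cl ((ModFun.PicDeg f 0).pull (phi0 r T (PicF.cl E)) (uMod r))))) =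
      val0 (r.homEquiv (phi0 r T (PicF.cl E))) := congrArg (fun g => val0 (r.homEquiv g)) h2
  rw [val0_phi0_cl r (ok_pull_uMod r _), val0_phi0_cl r hE] at h3
  obtain ⟨m, hm⟩ := rho_eq_iff.1 h3
  exact r_of_toPc f (invertible_of_ok hE) (invertible_of_ok (ok_pull_uMod r _)) m hm

/-- Every morphism out of the moduli problem factors uniquely. -/
theorem bestApprox : ModFun.IsBestApprox ⊤ (ModFun.PicDeg f 0) J (psi0 r) := by
  intro N ψ
  refine ⟨ψ.app J (uMod r) trivial (ok_uMod r), fun T E hT hE => ?_, fun h hh => ?_⟩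
  · exact (ψ.resp _ _ _ hE (ok_pull_uMod r _) (r_pull r hE)).trans
      (ψ.natural _ (uMod r) trivial hT (ok_uMod r) (ok_pull_uMod r _))
  · rw [hh J (uMod r) trivial (ok_uMod r), psi0_uMod, Category.id_comp]

end Fam

section Field

variable {k : Type u} [Field k] {X : Scheme.{u}} {f : X ⟶ Spec (CommRingCat.of k)} [IsProper f]
  [SmoothOfRelativeDimension 1 f] [GeometricallyConnected f] {σ : Spec (CommRingCat.of k) ⟶ X} {hσ : σ ≫ f = 𝟙 _}
  {J₀ : Over (Spec (CommRingCat.of k))} (r : (funct0 f σ hσ).RepresentableBy J₀)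

/-- The group law of a representing scheme is the tensor product. -/
theorem val0_mul {T : Over (Spec (CommRingCat.of k))} (a b : T ⟶ J₀) :
    letI := commGrpObj r
    val0 (r.homEquiv (a * b)) = val0 (r.homEquiv a) * val0 (r.homEquiv b) := by
  letI := commGrpObj r
  have hμ : val0 (r.homEquiv (μ : J₀ ⊗ J₀ ⟶ J₀)) =
      val0 (r.homEquiv (fst J₀ J₀)) * val0 (r.homEquiv (snd J₀ J₀)) :=
    (congrArg val0 (r.homEquiv.apply_symm_apply _)).trans
      (congrArg Subtype.val (map_mul (Shrink.mulEquiv (α := RZ f σ hσ (J₀ ⊗ J₀))) _ _))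
  conv_rhs => rw [← lift_fst a b, r.homEquiv_comp, val0_map]
  conv_rhs => arg 2; rw [← lift_snd a b, r.homEquiv_comp, val0_map]
  rw [← map_mul, ← hμ, ← val0_map, ← r.homEquiv_comp]
  rfl

/-- A representing scheme is a Jacobian. -/
theorem isJacobian_psi0 : letI := commGrpObj r; Jac.IsJacobian f ⊤ J₀ (psi0 r) := by
  letI := commGrpObj r
  refine ⟨⟨fun Ω _ _ t => trivial, bestApprox r, fun Ω _ _ t hP => ⟨fun g => ?_, fun E E' hE hE' h => ?_⟩⟩, ?_⟩
  · exact ⟨_, ok_pull_uMod r g, psi0_pull r g⟩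
  · have h' : val0 (r.homEquiv (phi0 r _ (PicF.cl E))) = val0 (r.homEquiv (phi0 r _ (PicF.cl E'))) :=
      congrArg (fun g => val0 (r.homEquiv g)) h
    rw [val0_phi0_cl r hE, val0_phi0_cl r hE'] at h'
    obtain ⟨m, hm⟩ := rho_eq_iff.1 h'.symm
    exact r_of_toPc f (invertible_of_ok hE) (invertible_of_ok hE') m hm
  · intro T hT L M N hL hM hN e
    refine r.homEquiv.injective (val0_injective ?_)
    rw [val0_mul]
    show val0 (r.homEquiv (phi0 r T (PicF.cl N))) =
      val0 (r.homEquiv (phi0 r T (PicF.cl L))) * val0 (r.homEquiv (phi0 r T (PicF.cl M)))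
    rw [val0_phi0_cl r hL, val0_phi0_cl r hM, val0_phi0_cl r hN]
    have h : toPc (PicF.cl N) ⟨N, rfl, invertible_of_ok hN⟩ =
        toPc (PicF.cl L) ⟨L, rfl, invertible_of_ok hL⟩ * toPc (PicF.cl M) ⟨M, rfl, invertible_of_ok hM⟩ := by
      obtain ⟨e⟩ := e
      refine ext_val ?_
      show _ = (toPc (PicF.cl L) ⟨L, rfl, invertible_of_ok hL⟩).1.val * (toPc (PicF.cl M) ⟨M, rfl, invertible_of_ok hM⟩).1.val
      rw [toPc_val, toPc_val, toPc_val]
      exact (H23.PicMul.cl_eq_iff.2 ⟨e⟩).trans (H23.PicMul.cl_tensor _ _)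
    rw [h]
    rw [rho, rho, rho, map_mul, map_mul, mul_inv, _root_.mul_mul_mul_comm]

include r in
/-- The dimension of a representing scheme is the genus. -/
theorem topologicalKrullDim_eq (hdim : topologicalKrullDim X = 1) [Smooth J₀.hom] [X.Over (Spec (CommRingCat.of k))]
    (hf : X ↘ Spec (CommRingCat.of k) = f) :
    topologicalKrullDim J₀.left = (Curv2.genus k X : WithBot ℕ∞) := by
  subst hf
  haveI : Subsingleton ↥(Spec (CommRingCat.of k)) := inferInstanceAs (Subsingleton (PrimeSpectrum k))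
  have hfib : ∀ (Y : Scheme.{u}) (g : Y ⟶ Spec (CommRingCat.of k)) (s : Spec (CommRingCat.of k)),
      topologicalKrullDim ↥(g.fiber s) = topologicalKrullDim ↥Y := fun Y g s =>
    ((g.fiberHomeo s).trans ((Homeomorph.setCongr (show g ⁻¹' {s} = Set.univ from
      Set.eq_univ_of_forall fun y => Subsingleton.elim (g y) s)).trans (Homeomorph.Set.univ _))).isHomeomorph.topologicalKrullDim_eq
  let s : Spec (CommRingCat.of k) := IsLocalRing.closedPoint k
  haveI : Smooth (X ↘ Spec (CommRingCat.of k)) := SmoothOfRelativeDimension.smooth (n := 1) _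
  have key := S12407.result (X ↘ Spec (CommRingCat.of k)) (fun t => (hfib _ _ t).trans hdim) J₀ (phi0 r)
    (isRelPicZero r) s
  rw [hfib] at key
  rw [key]
  refine congrArg (fun a : ℕ => (a : WithBot ℕ∞)) ?_
  haveI : IsNoetherian X := CurveCohLib.isNoetherian_of_proper (k := k) (X := X)
  exact betti_specField (X := X) QCoh.isQCoh_structureModule s 1

end Field

section Compare

variable {k : Type u} [Field k] {C : Scheme.{u}} [C.Over (Spec (CommRingCat.of k))]
  [IsProper (C ↘ Spec (CommRingCat.of k))] [SmoothOfRelativeDimension 1 (C ↘ Spec (CommRingCat.of k))]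
  [GeometricallyConnected (C ↘ Spec (CommRingCat.of k))]
  {σ : Spec (CommRingCat.of k) ⟶ C} (hσ : σ ≫ C ↘ Spec (CommRingCat.of k) = 𝟙 _)
  (hdim : topologicalKrullDim C = 1)
  {J : Over (Spec (CommRingCat.of k))} [GrpObj J] [IsCommMonObj J]
  {ψ : (ModFun.PicDeg (C ↘ Spec (CommRingCat.of k)) 0).Hom ⊤ J}
  (hJ : Jac.IsJacobian (C ↘ Spec (CommRingCat.of k)) ⊤ J ψ)

include hdim hJ in
/-- Every Jacobian of a pointed curve represents the rigidified degree zero Picard functor, compatibly with the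
classifying map and the group law; it is an abelian variety of dimension the genus. -/
theorem exists_rep_of_isJacobian :
    (∃ r : (funct0 (C ↘ Spec (CommRingCat.of k)) σ hσ).RepresentableBy J,
      (∀ (T : Over (Spec (CommRingCat.of k))) (E : (PicF.XT (C ↘ Spec (CommRingCat.of k)) T).Modules)
        (hT : (⊤ : ObjectProperty (Over (Spec (CommRingCat.of k)))) T)
        (h : (ModFun.PicDeg (C ↘ Spec (CommRingCat.of k)) 0).ok T E), ψ.app T E hT h = phi0 r T (PicF.cl E)) ∧
      (∀ (T : Over (Spec (CommRingCat.of k))) (a b : T ⟶ J),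
        val0 (r.homEquiv (a * b)) = val0 (r.homEquiv a) * val0 (r.homEquiv b))) ∧
    IsProper J.hom ∧ Smooth J.hom ∧ GeometricallyConnected J.hom ∧ GeometricallyIntegral J.hom ∧
      topologicalKrullDim J.left = (Curv2.genus k C : WithBot ℕ∞) := by
  obtain ⟨J₀, ⟨r₀⟩, hp, hs, hc, hi⟩ := exists_jacobian σ hσ hdim
  letI := commGrpObj r₀
  have h₀ := isJacobian_psi0 r₀
  obtain ⟨e, he, -⟩ := bestApprox r₀ J ψ
  obtain ⟨e', he', -⟩ := hJ.coarse.2.1 J₀ (psi0 r₀)
  have h1 : e ≫ e' = 𝟙 J₀ := (bestApprox r₀ J₀ (psi0 r₀)).unique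
    (fun T E hT hE => by rw [← Category.assoc, ← he T E hT hE, ← he' T E hT hE])
    (fun T E hT hE => (Category.comp_id _).symm)
  have h2 : e' ≫ e = 𝟙 J := (hJ.coarse.2.1 J ψ).unique
    (fun T E hT hE => by rw [← Category.assoc, ← he' T E hT hE, ← he T E hT hE])
    (fun T E hT hE => (Category.comp_id _).symm)
  let i : J₀ ≅ J := ⟨e, e', h1, h2⟩
  have hpull : ∀ {T : Over (Spec (CommRingCat.of k))} (a : T ⟶ J₀), ψ.app T _ trivial (ok_pull_uMod r₀ a) = a ≫ e :=
    fun a => by rw [he _ _ trivial (ok_pull_uMod r₀ a), psi0_pull]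
  have hhom : ∀ (T : Over (Spec (CommRingCat.of k))) (a b : T ⟶ J₀), (a * b) ≫ e = (a ≫ e) * (b ≫ e) := by
    intro T a b
    let f := C ↘ Spec (CommRingCat.of k)
    have hN : AbDual.IsPicZeroCl f T (val0 (r₀.homEquiv (a * b))).1.val := isPicZeroCl_of_mem (val0_mem _).2
    have hcl : ∀ c : T ⟶ J₀, PicF.cl ((Scheme.Modules.pullback (PicF.XTmap f c)).obj (uMod r₀)) = (val0 (r₀.homEquiv c)).1.val := by
      intro c
      rw [r₀.homEquiv_eq c, val0_map, pullPc_val, ← cl_out]
      rfl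
    have hm : Nonempty ((Scheme.Modules.pullback (PicF.XTmap f (a * b))).obj (uMod r₀) ≅
        CohB1.tensorMod ((Scheme.Modules.pullback (PicF.XTmap f a)).obj (uMod r₀)) ((Scheme.Modules.pullback (PicF.XTmap f b)).obj (uMod r₀))) := by
      refine H23.PicMul.cl_eq_iff.1 ?_
      refine (hcl _).trans (Eq.trans ?_ (H23.PicMul.cl_tensor _ _).symm)
      rw [val0_mul r₀ a b]
      show _ = (PicF.cl ((Scheme.Modules.pullback (PicF.XTmap f a)).obj (uMod r₀))) * (PicF.cl ((Scheme.Modules.pullback (PicF.XTmap f b)).obj (uMod r₀)))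
      rw [hcl, hcl]
      rfl
    rw [← hpull a, ← hpull b, ← hpull (a * b)]
    exact hJ.mul T trivial _ _ _ (ok_pull_uMod r₀ a) (ok_pull_uMod r₀ b) (ok_pull_uMod r₀ (a * b)) hm
  let r : (funct0 (C ↘ Spec (CommRingCat.of k)) σ hσ).RepresentableBy J :=
    { homEquiv := fun {T} => (⟨fun g => g ≫ e', fun g => g ≫ e, fun g => by simp [h2], fun g => by simp [h1]⟩ : (T ⟶ J) ≃ (T ⟶ J₀)).trans r₀.homEquiv
      homEquiv_comp := fun g g' => by
        show r₀.homEquiv ((g ≫ g') ≫ e') = _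
        rw [Category.assoc, r₀.homEquiv_comp]
        rfl }
  have hr : ∀ {T : Over (Spec (CommRingCat.of k))} (a : T ⟶ J), r.homEquiv a = r₀.homEquiv (a ≫ e') := fun _ => rfl
  refine ⟨⟨r, fun T E hT h => ?_, fun T a b => ?_⟩, ?_⟩
  · refine r.homEquiv.injective (val0_injective ?_)
    rw [he T E hT h, hr, Category.assoc, h1, Category.comp_id]
    show val0 (r₀.homEquiv (phi0 r₀ T (PicF.cl E))) = _
    rw [val0_phi0_cl r₀ h, val0_phi0_cl r h]
  · rw [hr, hr, hr, ← val0_mul r₀]
    refine congrArg (fun z => val0 (r₀.homEquiv z)) ?_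
    calc (a * b) ≫ e' = (((a ≫ e') * (b ≫ e')) ≫ e) ≫ e' := by
          rw [hhom, Category.assoc, Category.assoc, h2, Category.comp_id, Category.comp_id]
      _ = _ := by rw [Category.assoc, h1, Category.comp_id]
  · haveI := hp; haveI := hs; haveI := hc; haveI := hi
    haveI : IsIso e'.left := ((Over.forget _).mapIso i.symm).isIso_hom
    have hom : e'.left ≫ J₀.hom = J.hom := Over.w e'
    refine ⟨hom ▸ inferInstance, hom ▸ inferInstance, ?_, ?_, ?_⟩
    · exact hom ▸ (MorphismProperty.cancel_left_of_respectsIso @GeometricallyConnected e'.left J₀.hom).2 hc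
    · exact hom ▸ (MorphismProperty.cancel_left_of_respectsIso @GeometricallyIntegral e'.left J₀.hom).2 hi
    · rw [(Scheme.homeoOfIso (asIso e'.left)).isHomeomorph.topologicalKrullDim_eq]
      exact topologicalKrullDim_eq r₀ hdim rfl

end Compare

end Groth.Agent.PicRep
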