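import Groth.Agent.IntNum.Push
import Groth.Agent.NefCurve.Gen
import Groth.Agent.IntSym.Cartier
import Groth.Agent.GeomField.GlobalFunctions
import Groth.Agent.ParShLib.ResStalk
import Groth.Agent.QCoh.CechStd
import Groth.Agent.AmpleVan.Vanish
import Mathlib.AlgebraicGeometry.Morphisms.FlatRank

/-!
# The degree of a finite divisor on a curve over a field
-/

set_option autoImplicit false
set_option linter.style.haveILetI false
set_option backward.isDefEq.respectTransparency false
set_option backward.isDefEq.respectTransparency.types false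

universe u

open CategoryTheory CategoryTheory.Limits AlgebraicGeometry

noncomputable section

namespace Groth.Agent.PicRep

open Groth.Agent

variable (k : Type u) [Field k] {Z : Scheme.{u}} [Z.Over (Spec (CommRingCat.of k))]

/-- The rank of a finite scheme over a field is the dimension of its functions. -/
theorem finrank_structure [IsFinite (Z ↘ Spec (CommRingCat.of k))] (p : Spec (CommRingCat.of k)) :
    (Z ↘ Spec (CommRingCat.of k)).finrank p = Module.finrank k (Coh.HH Z (Coh.structureModule Z) 0) := by
  let π := Z ↘ Spec (CommRingCat.of k)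
  haveI : IsAffine Z := isAffine_of_isAffineHom π
  let φ : CommRingCat.of k ⟶ Γ(Z, ⊤) := (Scheme.ΓSpecIso (CommRingCat.of k)).inv ≫ π.appTop
  have hπ : π = Z.isoSpec.hom ≫ Spec.map φ := by
    rw [Spec.map_comp, ← Category.assoc, Scheme.isoSpec_hom_naturality, Category.assoc,
      Scheme.isoSpec_Spec_hom, ← Spec.map_comp, Iso.inv_hom_id, Spec.map_id, Category.comp_id]
  letI : Algebra k Γ(Z, ⊤) := GeomField.globalAlgebra k Z
  have hal : CommRingCat.ofHom (algebraMap k Γ(Z, ⊤)) = φ := rfl
  haveI : IsFinite (Spec.map φ) := by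
    rw [show Spec.map φ = Z.isoSpec.inv ≫ π by rw [hπ, Iso.inv_hom_id_assoc]]
    infer_instance
  haveI : Module.Finite k Γ(Z, ⊤) := RingHom.finite_algebraMap.1 ((IsFinite.SpecMap_iff φ).1 ‹_›)
  rw [GeomField.finrank_HH_zero k Z, show Z ↘ Spec (CommRingCat.of k) = Z.isoSpec.hom ≫ Spec.map φ from hπ]
  haveI : Flat (Spec.map φ) := by
    rw [Flat.SpecMap_iff, ← hal]
    exact RingHom.flat_algebraMap_iff.2 inferInstance
  rw [Scheme.Hom.finrank_comp_left_of_isIso, ← hal, Scheme.Hom.finrank_SpecMap_algebraMap,
    Module.rankAtStalk_eq_finrank_of_free]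
  rfl

variable {X : Scheme.{u}} [X.Over (Spec (CommRingCat.of k))] [IsProper (X ↘ Spec (CommRingCat.of k))]

/-- The degree of the ideal of a finite subscheme is minus its rank. -/
theorem deg_idealMod (hdim : topologicalKrullDim X ≤ 1) (J : X.IdealSheafData)
    (hJ : PicF.IsInvertible (ClSub.idealMod J))
    [IsFinite (J.subschemeι ≫ (X ↘ Spec (CommRingCat.of k)))] (p : Spec (CommRingCat.of k)) :
    Curv2.deg k X (ClSub.idealMod J) 1 = -((J.subschemeι ≫ (X ↘ Spec (CommRingCat.of k))).finrank p : ℤ) := by
  haveI := CurveCohLib.isNoetherian_of_proper (k := k) (X := X)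
  letI : J.subscheme.Over (Spec (CommRingCat.of k)) := ⟨J.subschemeι ≫ (X ↘ Spec (CommRingCat.of k))⟩
  haveI : IsFinite (J.subscheme ↘ Spec (CommRingCat.of k)) := ‹_›
  haveI : IsAffine J.subscheme := isAffine_of_isAffineHom (J.subscheme ↘ Spec (CommRingCat.of k))
  have hJc := AmpleVan.isCoh_invertible hJ
  have hO := QCoh.isCoh_structureModule' (X := X)
  have hQ := ParShLib.isCoh_quotMod (I := J)
  have hadd := CurveCohLib.euler_additive (k := k) (IntSym.shortExact_toSubscheme J) hJc hO hQ
  have hpush := IntNum.euler_push k J.subschemeι (rfl : J.subschemeι ≫ _ = J.subscheme ↘ Spec (CommRingCat.of k))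
    (QCoh.isQCoh_structureModule (X := J.subscheme))
  have hd : topologicalKrullDim J.subscheme ≤ 1 :=
    (J.subschemeι.isEmbedding.isInducing.topologicalKrullDim_le).trans hdim
  haveI : IsProper (J.subscheme ↘ Spec (CommRingCat.of k)) := inferInstance
  have hχ := NefCurve.euler_eq k hd (QCoh.isQCoh_structureModule (X := J.subscheme))
  haveI := QCoh.subsingleton_HH_of_isAffine (X := J.subscheme) (QCoh.isQCoh_structureModule (X := J.subscheme)) 0
  rw [Module.finrank_zero_of_subsingleton (M := Coh.HH J.subscheme (Coh.structureModule J.subscheme) 1)] at hχ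
  change Curv2.euler k X (Coh.structureModule X) = _ + Curv2.euler k X (ClSub.quotMod J) at hadd
  rw [show (J.subschemeι ≫ (X ↘ Spec (CommRingCat.of k))).finrank p = (J.subscheme ↘ Spec (CommRingCat.of k)).finrank p from rfl,
    finrank_structure k p]
  unfold Curv2.deg
  rw [hadd, show Curv2.euler k X (ClSub.quotMod J) = _ from hpush, hχ]
  push_cast
  ring

end Groth.Agent.PicRep
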