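import Groth.Agent.GenusOneX.Family
import Groth.Agent.PicRep.DivDeg

/-!
# Divisors of a family of invertible modules with one section
-/

set_option autoImplicit false
set_option maxHeartbeats 1600000
set_option linter.style.haveILetI false
set_option linter.unusedSectionVars false
set_option backward.isDefEq.respectTransparency false
set_option backward.isDefEq.respectTransparency.types false

universe u

open CategoryTheory CategoryTheory.Limits AlgebraicGeometry TopologicalSpace Opposite

namespace Groth.Agent.PicRep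

open Groth.Agent InvX ZeroMapX
open Groth.Agent.GenusOneX (fibre_isProper fibre_isIntegral fibre_dim fibre_smooth ev ev_pullElt nonempty_iso_one deg_pullback_base isEffCartier_of_ne_zero)

attribute [local instance] GenusOneX.fibreOver GenusOneX.flat_of_family GenusOneX.lfp_of_family

variable {E S : Scheme.{u}} {f : E ⟶ S} [IsProper f] [SmoothOfRelativeDimension 1 f] [GeometricallyConnected f]

/-- An invertible module with one section on each fibre, compatibly with base change. -/
structure HasOneSection (f : E ⟶ S) [IsProper f] (N : E.Modules) : Prop where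
  inv : PicF.IsInvertible N
  rank : ∀ s : S, CohIII.fiberRank f N 0 s = 1
  exch : ∀ s : S, CohPullLib.ExchAt f N 0 s

theorem isPullback_comap_fibre (Z : E.IdealSheafData) (s : S) :
    IsPullback ((Z.comapIso (f.fiberι s)).hom ≫ pullback.snd _ _)
      ((Z.comap (f.fiberι s)).subschemeι ≫ f.fiberToSpecResidueField s) (Z.subschemeι ≫ f)
      (S.fromSpecResidueField s) := by
  refine IsPullback.paste_vert ?_ (IsPullback.of_hasPullback f (S.fromSpecResidueField s))
  refine IsPullback.of_iso_pullback ⟨?_⟩ (Z.comapIso (f.fiberι s) ≪≫ pullbackSymmetry _ _) ?_ ?_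
  · show ((Z.comapIso (f.fiberι s)).hom ≫ pullback.snd _ _) ≫ Z.subschemeι = _ ≫ pullback.fst f _
    rw [Category.assoc, ← pullback.condition, ← Category.assoc, Z.comapIso_hom_fst]
    rfl
  · rw [Iso.trans_hom, Category.assoc]
    exact congrArg _ (pullbackSymmetry_hom_comp_fst (f.fiberι s) Z.subschemeι)
  · rw [Iso.trans_hom, Category.assoc]
    exact (congrArg _ (pullbackSymmetry_hom_comp_snd (f.fiberι s) Z.subschemeι)).trans (Z.comapIso_hom_fst _)

theorem isFinite_comap_fibre (Z : E.IdealSheafData) [IsFinite (Z.subschemeι ≫ f)] (s : S) :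
    IsFinite ((Z.comap (f.fiberι s)).subschemeι ≫ f.fiberToSpecResidueField s) :=
  MorphismProperty.of_isPullback (P := @IsFinite) (isPullback_comap_fibre Z s) inferInstance

theorem finite_of_isFinite {k : Type u} [Field k] {Y : Scheme.{u}} (π : Y ⟶ Spec (CommRingCat.of k)) [IsFinite π] :
    Finite Y := by
  haveI : IsAffine Y := isAffine_of_isAffineHom π
  obtain ⟨φ, hφ⟩ : ∃ φ, Spec.map φ = Y.isoSpec.inv ≫ π := ⟨_, Spec.map_preimage _⟩
  letI : Algebra k Γ(Y, ⊤) := φ.hom.toAlgebra
  have hfin' : φ.hom.Finite := by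
    rw [← IsFinite.SpecMap_iff, hφ]
    infer_instance
  haveI : Module.Finite k Γ(Y, ⊤) := hfin'
  haveI : IsArtinianRing Γ(Y, ⊤) := IsArtinianRing.of_finite k _
  exact Finite.of_equiv _ Y.isoSpec.hom.homeomorph.toEquiv.symm

/-- The degree of a finite flat divisor on a fibre. -/
theorem deg_comap_fibre (Z : E.IdealSheafData) [IsFinite (Z.subschemeι ≫ f)] [Flat (Z.subschemeι ≫ f)]
    (s : S) (hJ : PicF.IsInvertible (ClSub.idealMod (Z.comap (f.fiberι s)))) :
    Curv2.deg (S.residueField s) (f.fiber s) (ClSub.idealMod (Z.comap (f.fiberι s))) 1 =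
      -((Z.subschemeι ≫ f).finrank s : ℤ) := by
  haveI := fibre_isProper f s
  haveI : IsFinite ((Z.comap (f.fiberι s)).subschemeι ≫ (f.fiber s ↘ Spec (CommRingCat.of (S.residueField s)))) :=
    isFinite_comap_fibre Z s
  let p := IsLocalRing.closedPoint (S.residueField s)
  rw [deg_idealMod (S.residueField s) (fibre_dim f s).le _ hJ p]
  show -((((Z.comap (f.fiberι s)).subschemeι ≫ f.fiberToSpecResidueField s).finrank p : ℕ) : ℤ) = _
  rw [← (isPullback_comap_fibre Z s).isoPullback_hom_snd, Scheme.Hom.finrank_comp_left_of_isIso,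
    Scheme.Hom.finrank_pullback_snd, S.fromSpecResidueField_apply]

variable {N : E.Modules} (h1N : HasOneSection f N)

include h1N in
theorem isInvertible_push : PicF.IsInvertible ((Scheme.Modules.pushforward f).obj N) := by
  have hNq := ProjUPX.isQCoh_of_isInvertible h1N.inv
  refine CurveDuality.isInvertible_of_rank_one (CohPullLib.isFinLocFreeOfRank_of_sections
    (QCoh.isQCoh_pushforward f hNq) fun t => ?_)
  obtain ⟨V, hV, P, ht, hP, hepi⟩ := h1N.exch t
  obtain ⟨h1, h2, h3⟩ := CohPullLib.sections_push_of_preservesEpi hNq hP hepi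
  refine ⟨V, hV, ht, h1, h2, fun Q => ?_⟩
  obtain ⟨v, hv, rfl⟩ : ∃ (v : S) (hv : v ∈ V), hV.primeIdealOf ⟨v, hv⟩ = Q :=
    ⟨hV.fromSpec Q, by rw [← SetLike.mem_coe, ← hV.range_fromSpec]; exact Set.mem_range_self _,
      hV.fromSpec.isOpenEmbedding.injective (hV.fromSpec_primeIdealOf _)⟩
  rw [h3 v hv]
  exact h1N.rank v


include h1N in
theorem map_ev_ne_zero (s : S) : (Scheme.Modules.pullback (f.fiberι s)).map (ev f N) ≠ 0 := by
  intro hz
  obtain ⟨V, hsV, n, hn⟩ := exists_frame (isInvertible_push h1N) s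
  let g := S.fromSpecResidueField s
  let g' := f.fiberι s
  let f' := f.fiberToSpecResidueField s
  have h : IsPullback g' f' f g := IsPullback.of_hasPullback f g
  have hle : (⊤ : (Spec (CommRingCat.of (S.residueField s))).Opens) ≤ g ⁻¹ᵁ V := fun z _ => by
    show g z ∈ V
    rw [S.fromSpecResidueField_apply s z]
    exact hsV
  haveI := CohPullLib.isIso_bc0_of_exchAt h (ProjUPX.isQCoh_of_isInvertible h1N.inv) (fun z => by
    rw [show g z = s from S.fromSpecResidueField_apply s z]; exact h1N.exch s)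
  have h1 : (CohBC.bc0 f g f' g' h.w N).app ⊤ (QCoh.pullSec g ((Scheme.Modules.pushforward f).obj N) hle n) = 0 := by
    rw [CohPullLib.bc0_app_pullSec h.w N hle]
    have h2 : pullElt g' (show Γ(N, f ⁻¹ᵁ V) from n) = 0 := by
      rw [← ev_pullElt f N n, ← ThetaLib.map_pullElt g' (ev f N) (pullElt f n), hz]
      rfl
    show ((Scheme.Modules.pullback g').obj N).presheaf.map _ (pullElt g' (show Γ(N, f ⁻¹ᵁ V) from n)) = 0
    rw [h2, map_zero]
  have h3 : QCoh.pullSec g ((Scheme.Modules.pushforward f).obj N) hle n = 0 :=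
    (ConcreteCategory.bijective_of_isIso ((CohBC.bc0 f g f' g' h.w N).app ⊤)).1 (h1.trans (map_zero _).symm)
  have h4 : IsFrame (AModX.res ((Scheme.Modules.pullback g).obj ((Scheme.Modules.pushforward f).obj N)) hle (pullElt g n)) :=
    (isFrame_pullElt g hn).res hle
  let z : Spec (S.residueField s) := IsLocalRing.closedPoint (S.residueField s)
  have h5 := (h4.germ_bijective (x := z) trivial).1 (show (1 : (Spec (CommRingCat.of (S.residueField s))).presheaf.stalk z) • _ = (0 : _) • _ by
    rw [one_smul, zero_smul, show AModX.res _ hle (pullElt g n) = 0 from h3, map_zero])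
  exact one_ne_zero h5



include h1N in
/-- A family with one section on each fibre, of degree `d`, is the twist of a base module by a finite flat
divisor of degree `d`. -/
theorem exists_divisor (d : ℕ) (hd : ∀ s : S, Curv2.deg (S.residueField s) (f.fiber s)
      ((Scheme.Modules.pullback (f.fiberι s)).obj N) 1 = d) :
    ∃ Z : E.IdealSheafData, BlowUp.IsEffCartierIdeal Z ∧ IsZeroIdeal (ev f N) Z ∧
      Mor2.IsFinLocFreeOfDeg d (Z.subschemeι ≫ f) ∧
      Nonempty ((Scheme.Modules.pullback f).obj ((Scheme.Modules.pushforward f).obj N) ≅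
        CohB1.tensorMod (ClSub.idealMod Z) N) := by
  have hA := PicClLib.isInvertible_pullback f (isInvertible_push h1N)
  obtain ⟨Z, hZ⟩ := exists_isZeroIdeal (ev f N) hA h1N.inv
  have hfib : ∀ s : S, BlowUp.IsEffCartierIdeal (Z.comap (f.fiberι s)) := fun s => by
    haveI := fibre_isIntegral f s
    exact isEffCartier_of_ne_zero (PicClLib.isInvertible_pullback _ hA) (PicClLib.isInvertible_pullback _ h1N.inv)
      (map_ev_ne_zero h1N s) (hZ.pullback hA h1N.inv (f.fiberι s))
  obtain ⟨hC, hfl⟩ := RelEffX.relEffCartier f Z (fun x _ => by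
    obtain ⟨U, a, b, c, hxU, ha, hb, hc⟩ := exists_local (ev f N) hA h1N.inv x
    exact ⟨U, hxU, c, hZ.ideal_eq U ha hb hc⟩) hfib
  haveI := hfl
  obtain ⟨hq, hp⟩ := RelCurve.lqf_lfp_of_cartier f hC hfl
  haveI := hq
  haveI := hp
  haveI : IsFinite (Z.subschemeι ≫ f) := IsFinite.of_isProper_of_locallyQuasiFinite _
  refine ⟨Z, hC, hZ, ⟨⟨inferInstance, inferInstance, inferInstance⟩, fun s => ?_⟩,
    nonempty_iso_of_isZeroIdeal hA h1N.inv hZ hC⟩
  haveI := fibre_isProper f s
  haveI := fibre_smooth f s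
  haveI := fibre_isIntegral f s
  have hAs := PicClLib.isInvertible_pullback (f.fiberι s) hA
  have hBs := PicClLib.isInvertible_pullback (f.fiberι s) h1N.inv
  have hJ := (S8914.result _).2 (hfib s)
  obtain ⟨e⟩ := nonempty_iso_of_isZeroIdeal hAs hBs (hZ.pullback hA h1N.inv (f.fiberι s)) (hfib s)
  have h1 := deg_pullback_base f s (isInvertible_push h1N)
  rw [CurveRR.deg_congr (S.residueField s) e 1] at h1
  have h2 := (CurveRR.deg_tensor (S.residueField s) (fibre_dim f s) hJ hBs).symm.trans h1
  rw [hd s, deg_comap_fibre Z s hJ] at h2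
  omega

include h1N in
/-- The finite divisor attached to a family with one section is unique. -/
theorem eq_zeroIdeal {Z : E.IdealSheafData} (hZ : IsZeroIdeal (ev f N) Z) {J : E.IdealSheafData}
    (hIi : PicF.IsInvertible (ClSub.idealMod J)) [IsFinite (J.subschemeι ≫ f)]
    {M : S.Modules} (hM : PicF.IsInvertible M)
    (i : (Scheme.Modules.pullback f).obj M ≅ CohB1.tensorMod (ClSub.idealMod J) N) : J = Z := by
  have hA := PicClLib.isInvertible_pullback f hM
  obtain ⟨c₀⟩ := H23.PicMul.comm (Coh.structureModule E) N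
  let lam : (AmpleVan.tw N).obj (Coh.structureModule E) ≅ N := c₀ ≪≫ KFlatLib.tensorUnitIso N
  let j : (Scheme.Modules.pullback f).obj M ⟶ N :=
    i.hom ≫ (AmpleVan.tw N).map (ClSub.idealModι J) ≫ lam.hom
  have hj : IsZeroIdeal j J := (isZeroIdeal_twist J hIi h1N.inv).comp_iso i lam
  let adj := Scheme.Modules.pullbackPushforwardAdjunction f
  let a : M ⟶ (Scheme.Modules.pushforward f).obj N := adj.homEquiv M N j
  have hja : (Scheme.Modules.pullback f).map a ≫ ev f N = j := by
    have h := adj.homEquiv_counit (X := M) (Y := N) a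
    exact h.symm.trans ((adj.homEquiv M N).symm_apply_apply j)
  refine IsZeroIdeal.unique (PicClLib.isInvertible_pullback f (isInvertible_push h1N)) h1N.inv ?_ hZ
  intro x U hx m' b' c' hm' hb' hc'
  obtain ⟨V₀, hV₀, m, n, hm, hn⟩ := exists_frame₂ hM (isInvertible_push h1N) (f x)
  obtain ⟨t, ht⟩ := hn.exists_coord le_rfl (a.app V₀ m)
  rw [AModX.res_self] at ht
  have ht1 : ∀ (s : S) (hs : s ∈ V₀), IsUnit (S.presheaf.germ V₀ s hs t) := by
    intro s hs
    by_contra hu
    let g := S.fromSpecResidueField s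
    let g' := f.fiberι s
    let f' := f.fiberToSpecResidueField s
    have hall : ∀ w : f.fiber s, g' w ∈ f ⁻¹ᵁ V₀ := fun w => by
      show f (g' w) ∈ V₀
      have h1 : f (g' w) = g (f' w) := congrArg (fun φ : f.fiber s ⟶ S => φ w) (f.fiber_fac s)
      rw [h1, S.fromSpecResidueField_apply]
      exact hs
    have hsupp : ∀ w : f.fiber s, w ∈ ((J.comap g').support : Set (f.fiber s)) := by
      intro w
      by_contra hw
      have hst := (Div21Lib.notMem_support_iff _ w).1 hw
      obtain ⟨U₁, b₁, hxU₁, hb₁⟩ := InvX.exists_frame h1N.inv (g' w)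
      let W := f ⁻¹ᵁ V₀ ⊓ U₁
      have hwW : g' w ∈ W := ⟨hall w, b₁⟩
      obtain ⟨d, hd⟩ := (hb₁.res (inf_le_right : W ≤ U₁)).exists_coord le_rfl
        ((ev f N).app W (AModX.res _ (inf_le_left : W ≤ f ⁻¹ᵁ V₀) (pullElt f n)))
      rw [AModX.res_self] at hd
      have hjc : j.app W (AModX.res _ (inf_le_left : W ≤ f ⁻¹ᵁ V₀) (pullElt f m)) =
          (AModX.resR (inf_le_left : W ≤ f ⁻¹ᵁ V₀) (f.app V₀ t) * d) • AModX.res N (inf_le_right : W ≤ U₁) hxU₁ := by
        rw [← hja]
        show (ev f N).app W (((Scheme.Modules.pullback f).map a).app W (AModX.res _ _ (pullElt f m))) = _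
        rw [AModX.app_res, map_pullElt_smul f a ht, AModX.res_smul, Scheme.Modules.Hom.app_smul, hd, mul_smul]
      have hst2 := (hj.pullback hA h1N.inv g') w (g' ⁻¹ᵁ W) hwW _ _ _ (isFrame_pullElt g' ((isFrame_pullElt f hm).res _))
        (isFrame_pullElt g' (hb₁.res _)) (map_pullElt_smul g' j hjc)
      rw [hst, eq_comm, Ideal.span_singleton_eq_top, map_mul, map_mul] at hst2
      have hu1 := isUnit_of_mul_isUnit_left hst2
      rw [← Scheme.Hom.germ_stalkMap_apply g' W w hwW] at hu1
      have hu2 := (isUnit_map_iff (g'.stalkMap w).hom _).1 hu1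
      rw [germ_resR' (inf_le_left : W ≤ f ⁻¹ᵁ V₀) hwW, ← Scheme.Hom.germ_stalkMap_apply f V₀ (g' w) (hall w)] at hu2
      have hu3 := (isUnit_map_iff (f.stalkMap (g' w)).hom _).1 hu2
      rw [← S.mem_basicOpen _ _ (hall w), show f (g' w) = s from
        (congrArg (fun φ : f.fiber s ⟶ S => φ w) (f.fiber_fac s)).trans (S.fromSpecResidueField_apply s _)] at hu3
      exact hu ((S.mem_basicOpen _ s hs).1 hu3)
    haveI := fibre_isProper f s
    haveI := fibre_isIntegral f s
    haveI : IsFinite ((J.comap g').subschemeι ≫ f') := isFinite_comap_fibre J s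
    haveI : Finite (f.fiber s) := by
      haveI : Finite (J.comap g').subscheme := finite_of_isFinite ((J.comap g').subschemeι ≫ f')
      refine Finite.of_surjective (J.comap g').subschemeι fun w => ?_
      have h1 : w ∈ Set.range (J.comap g').subschemeι := by
        rw [Scheme.IdealSheafData.range_subschemeι]; exact hsupp w
      exact h1
    haveI : JacobsonSpace (f.fiber s) := LocallyOfFiniteType.jacobsonSpace f'
    haveI : DiscreteTopology (f.fiber s) := inferInstance
    have h4 := topologicalKrullDim_zero_of_discreteTopology (f.fiber s)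
    rw [fibre_dim f s] at h4
    exact not_le.2 zero_lt_one h4
  have hjc : ((Scheme.Modules.pullback f).map a).app (f ⁻¹ᵁ V₀) (pullElt f m) = f.app V₀ t • pullElt f n :=
    map_pullElt_smul f a ht
  obtain ⟨W, hxW, hW⟩ : ∃ (W : E.Opens), x ∈ W ∧ W ≤ f ⁻¹ᵁ V₀ ⊓ U :=
    ⟨f ⁻¹ᵁ V₀ ⊓ U, show x ∈ f ⁻¹ᵁ V₀ ⊓ U from ⟨hV₀, hx⟩, le_rfl⟩
  have h1 := hj x W hxW (AModX.res _ (hW.trans inf_le_left) (pullElt f m)) (AModX.res N (hW.trans inf_le_right) b')
  obtain ⟨d, hd⟩ := (hb'.res (hW.trans inf_le_right)).exists_coord le_rfl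
    ((ev f N).app W (AModX.res _ (hW.trans inf_le_left) (pullElt f n)))
  rw [AModX.res_self] at hd
  have h2 := h1 (AModX.resR (hW.trans inf_le_left) (f.app V₀ t) * d) ((isFrame_pullElt f hm).res _) (hb'.res _) (by
    rw [← hja]
    show (ev f N).app W (((Scheme.Modules.pullback f).map a).app W (AModX.res _ _ (pullElt f m))) = _
    rw [AModX.app_res, hjc, AModX.res_smul, Scheme.Modules.Hom.app_smul, hd, mul_smul])
  rw [h2]
  refine Eq.trans ?_ (span_germ_eq (ev f N) hxW hx ((isFrame_pullElt f hn).res (hW.trans inf_le_left))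
    (hb'.res (hW.trans inf_le_right)) hd hm' hb' hc')
  rw [map_mul]
  refine Ideal.span_singleton_mul_left_unit ?_ _
  rw [germ_resR' (hW.trans inf_le_left) hxW, ← Scheme.Hom.germ_stalkMap_apply f V₀ x (hW hxW).1]
  exact (ht1 (f x) _).map _

end Groth.Agent.PicRep
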