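import Groth.Agent.CurveCohLib.SmoothCurve
import Groth.Agent.CurveEmbed.Points
import Mathlib.FieldTheory.IntermediateField.Adjoin.Algebra
import Mathlib.FieldTheory.IsAlgClosed.AlgebraicClosure
import Mathlib.RingTheory.Jacobson.Ring

/-!
# A finite extension over which a curve has many rational points
-/

set_option autoImplicit false
set_option linter.style.haveILetI false
set_option backward.isDefEq.respectTransparency false
set_option backward.isDefEq.respectTransparency.types false

universe u

open CategoryTheory CategoryTheory.Limits AlgebraicGeometry TopologicalSpace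

noncomputable section

namespace Groth.Agent.PicRep

open Groth.Agent

theorem infinite_closedPoints {k : Type u} [Field k] (X : Scheme.{u}) [IsIntegral X]
    (g : X ⟶ Spec (CommRingCat.of k)) [LocallyOfFiniteType g] (hdim : topologicalKrullDim X = 1) :
    (closedPoints X).Infinite := by
  intro hfin
  haveI : JacobsonSpace X := LocallyOfFiniteType.jacobsonSpace g
  have hcl : IsClosed (closedPoints (X : Type u)) := by
    rw [← Set.biUnion_of_singleton (closedPoints (X : Type u))]
    exact hfin.isClosed_biUnion fun x hx => hx
  have h := closure_closedPoints (X := X)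
  rw [hcl.closure_eq] at h
  exact CurveEmbed.genericPoint_not_closed (X := X) hdim (h.symm ▸ Set.mem_univ _ : genericPoint X ∈ closedPoints X)

/-- Points with values in a finite extension. -/
theorem exists_points {k : Type u} [Field k] (X : Scheme.{u}) [IsIntegral X] (g : X ⟶ Spec (CommRingCat.of k))
    [LocallyOfFiniteType g] (hdim : topologicalKrullDim X = 1) (N : ℕ) :
    ∃ (k' : Type u) (_ : Field k') (_ : Algebra k k') (_ : Module.Finite k k')
      (P : Fin N → (Spec (CommRingCat.of k') ⟶ X)),
      (∀ i, P i ≫ g = Spec.map (CommRingCat.ofHom (algebraMap k k'))) ∧ Function.Injective P := by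
  classical
  let e := (infinite_closedPoints X g hdim).natEmbedding
  let z : Fin N → X := fun i => (e i.1).1
  let r : ∀ i, CommRingCat.of k ⟶ X.residueField (z i) := fun i => Spec.preimage (X.fromSpecResidueField (z i) ≫ g)
  have hr : ∀ i, Spec.map (r i) = X.fromSpecResidueField (z i) ≫ g := fun i => Spec.map_preimage _
  letI : ∀ i, Algebra k (X.residueField (z i)) := fun i => (r i).hom.toAlgebra
  haveI hfin : ∀ i, Module.Finite k (X.residueField (z i)) := fun i => by
    haveI : IsClosedImmersion (X.fromSpecResidueField (z i)) :=
      IsClosedImmersion.of_isPreimmersion _ (by rw [Scheme.range_fromSpecResidueField]; exact (e i.1).2)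
    haveI : LocallyOfFiniteType (Spec.map (r i)) := by rw [hr]; infer_instance
    haveI : Algebra.FiniteType k (X.residueField (z i)) :=
      (HasRingHomProperty.Spec_iff (P := @LocallyOfFiniteType)).1 ‹LocallyOfFiniteType (Spec.map (r i))›
    exact finite_of_finite_type_of_isJacobsonRing k (X.residueField (z i))
  let φ : ∀ i, X.residueField (z i) →ₐ[k] AlgebraicClosure k := fun i => IsAlgClosed.lift
  let k' : IntermediateField k (AlgebraicClosure k) := ⨆ i, (φ i).fieldRange
  haveI : ∀ i, FiniteDimensional k (φ i).fieldRange := fun i => (φ i).toLinearMap.finiteDimensional_range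
  haveI : Module.Finite k k' := IntermediateField.finiteDimensional_iSup_of_finite
  let ψ : ∀ i, X.residueField (z i) →ₐ[k] k' := fun i =>
    (IntermediateField.inclusion (le_iSup (fun i => (φ i).fieldRange) i)).comp (φ i).rangeRestrict
  refine ⟨k', inferInstance, inferInstance, inferInstance,
    fun i => Spec.map (CommRingCat.ofHom (ψ i).toRingHom) ≫ X.fromSpecResidueField (z i), fun i => ?_, fun i j h => ?_⟩
  · rw [Category.assoc, ← hr, ← Spec.map_comp]
    congr 1
    exact CommRingCat.hom_ext (RingHom.ext (ψ i).commutes)
  · have h' := congrArg (fun m : Spec (CommRingCat.of k') ⟶ X => m (IsLocalRing.closedPoint k')) h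
    simp only [Scheme.Hom.comp_apply] at h'
    have hz : z i = z j := (Scheme.fromSpecResidueField_apply _ _).symm.trans (h'.trans (Scheme.fromSpecResidueField_apply _ _))
    exact Fin.ext (e.injective (Subtype.ext hz))

end Groth.Agent.PicRep
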