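import Groth.Agent.OverRep.Basic
import Mathlib.AlgebraicGeometry.Morphisms.FiniteType

/-!
# Representing schemes are locally of finite type when the charts are; the chart algebra is of finite type
-/

set_option autoImplicit false
set_option linter.style.haveILetI false
set_option backward.isDefEq.respectTransparency false
set_option backward.isDefEq.respectTransparency.types false

universe u

open CategoryTheory CategoryTheory.Limits AlgebraicGeometry Opposite

noncomputable section

namespace Groth.Agent.OverRep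

variable {S : Scheme.{u}} {F : (Over S)ᵒᵖ ⥤ Type u}

/-- A scheme representing a functor covered by charts locally of finite type is locally of finite type. -/
theorem locallyOfFiniteType_of_charts {Q : Over S} (r : F.RepresentableBy Q) {ι : Type u}
    (Z : ι → Over S) (e : ∀ i, F.obj (op (Z i))) (O : ∀ (i : ι) (T : Over S), F.obj (op T) → T.left.Opens)
    (hO : ∀ (i : ι) (T : Over S) (x : F.obj (op T)) (T' : Over S) (t : T' ⟶ T),
      Set.range t.left ⊆ O i T x ↔ ∃ q : T' ⟶ Z i, F.map q.op (e i) = F.map t.op x)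
    (hinj : ∀ (i : ι) (T : Over S) (q q' : T ⟶ Z i), F.map q.op (e i) = F.map q'.op (e i) → q = q')
    (hcov : ∀ (T : Over S) (x : F.obj (op T)) (p : T.left), ∃ i, p ∈ O i T x)
    (hZ : ∀ i, LocallyOfFiniteType (Z i).hom) : LocallyOfFiniteType Q.hom := by
  let x := r.homEquiv (𝟙 Q)
  have hx : ∀ {T : Over S} (g : T ⟶ Q), F.map g.op x = r.homEquiv g := fun g => (r.homEquiv_eq g).symm
  let 𝒰 : Q.left.OpenCover := Scheme.openCoverOfIsOpenCover Q.left (fun i => O i Q x) (by
    rw [TopologicalSpace.IsOpenCover, eq_top_iff]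
    exact fun p _ => TopologicalSpace.Opens.mem_iSup.2 (hcov Q x p))
  refine IsZariskiLocalAtSource.of_openCover 𝒰 fun i => ?_
  let o : Over.mk ((O i Q x).ι ≫ Q.hom) ⟶ Q := Over.homMk (O i Q x).ι rfl
  obtain ⟨q, hq⟩ := (hO i Q x _ o).1 (Scheme.Opens.range_ι _).subset
  let g : Z i ⟶ Q := r.homEquiv.symm (e i)
  have hg : F.map g.op x = e i := (hx g).trans (Equiv.apply_symm_apply _ _)
  have hgU : Set.range g.left ⊆ O i Q x :=
    (hO i Q x (Z i) g).2 ⟨𝟙 (Z i), by rw [op_id, Functor.map_id_apply, hg]⟩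
  let h : Z i ⟶ Over.mk ((O i Q x).ι ≫ Q.hom) :=
    Over.homMk (IsOpenImmersion.lift (O i Q x).ι g.left (hgU.trans (Scheme.Opens.range_ι _).symm.subset)) (by
      show IsOpenImmersion.lift _ _ _ ≫ (O i Q x).ι ≫ Q.hom = (Z i).hom
      rw [IsOpenImmersion.lift_fac_assoc]
      exact Over.w g)
  have hho : h ≫ o = g := Over.OverMorphism.ext (IsOpenImmersion.lift_fac _ _ _)
  have hqg : q ≫ g = o := r.homEquiv.injective (by
    rw [← hx, ← hx, op_comp, Functor.map_comp_apply, hg, hq])
  have h1 : q ≫ h = 𝟙 _ := by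
    refine Over.OverMorphism.ext ((cancel_mono (O i Q x).ι).1 ?_)
    show (q ≫ h).left ≫ o.left = _
    rw [← Over.comp_left, Category.assoc, hho, hqg]
    exact (Category.id_comp _).symm
  have h2 : h ≫ q = 𝟙 _ := hinj i _ _ _ (by
    rw [op_id, Functor.map_id_apply, op_comp, Functor.map_comp_apply, hq, ← Functor.map_comp_apply, ← op_comp, hho, hg])
  haveI : IsIso q.left := ⟨h.left, by rw [← Over.comp_left, h1]; rfl, by rw [← Over.comp_left, h2]; rfl⟩
  haveI := hZ i
  show LocallyOfFiniteType ((O i Q x).ι ≫ Q.hom)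
  rw [show (O i Q x).ι ≫ Q.hom = q.left ≫ (Z i).hom from (Over.w q).symm]
  infer_instance

end Groth.Agent.OverRep
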