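import Groth.Agent.S7195
import Groth.Prelude.Def_Mor2
import Mathlib.CategoryTheory.Limits.Constructions.Over.Basic
import Mathlib.CategoryTheory.Limits.Constructions.Over.Products

/-!
# Representability descends along finite locally free morphisms when finite point sets lie in affines
-/

set_option autoImplicit false
set_option maxHeartbeats 1000000
set_option linter.style.haveILetI false
set_option backward.isDefEq.respectTransparency false
set_option backward.isDefEq.respectTransparency.types false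

universe u

open CategoryTheory CategoryTheory.Limits AlgebraicGeometry Opposite

noncomputable section

namespace Groth.Agent.DescRep

open Groth.Agent

variable {S S' : Scheme.{u}} (q : S' ⟶ S)

/-- The functor `T ↦ T ×_S Z`, as a scheme over `S`. -/
abbrev B {Z : Scheme.{u}} (g : Z ⟶ S) : Over S ⥤ Over S := Over.pullback g ⋙ Over.map g

/-- The projection. -/
def pr {Z : Scheme.{u}} (g : Z ⟶ S) (T : Over S) : (B g).obj T ⟶ T :=
  Over.homMk (pullback.fst T.hom g) pullback.condition

theorem pr_nat {Z : Scheme.{u}} (g : Z ⟶ S) {T T' : Over S} (w : T' ⟶ T) :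
    (B g).map w ≫ pr g T = pr g T' ≫ w := Over.OverMorphism.ext (by simp [B, pr])

/-- The double overlap. -/
abbrev q₂ : pullback q q ⟶ S := pullback.fst q q ≫ q

/-- The first projection of the overlap. -/
def π₁ (T : Over S) : (B (q₂ q)).obj T ⟶ (B q).obj T :=
  Over.homMk (pullback.lift (pullback.fst T.hom (q₂ q)) (pullback.snd T.hom (q₂ q) ≫ pullback.fst q q)
    (by rw [Category.assoc]; exact pullback.condition)) (by simp [B, q₂])

/-- The second projection of the overlap. -/
def π₂ (T : Over S) : (B (q₂ q)).obj T ⟶ (B q).obj T :=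
  Over.homMk (pullback.lift (pullback.fst T.hom (q₂ q)) (pullback.snd T.hom (q₂ q) ≫ pullback.snd q q)
    (by rw [Category.assoc, ← pullback.condition]; exact pullback.condition)) (by simp [B, q₂, pullback.condition])

theorem π₁_nat {T T' : Over S} (w : T' ⟶ T) : (B (q₂ q)).map w ≫ π₁ q T = π₁ q T' ≫ (B q).map w :=
  Over.OverMorphism.ext (pullback.hom_ext (by simp [B, π₁]) (by simp [B, π₁]))

theorem π₂_nat {T T' : Over S} (w : T' ⟶ T) : (B (q₂ q)).map w ≫ π₂ q T = π₂ q T' ≫ (B q).map w :=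
  Over.OverMorphism.ext (pullback.hom_ext (by simp [B, π₂]) (by simp [B, π₂]))

theorem π_pr (T : Over S) : π₁ q T ≫ pr q T = π₂ q T ≫ pr q T :=
  Over.OverMorphism.ext (by simp [π₁, π₂, pr])

/-- The first overlap over `S'`. -/
abbrev T₂ (T : Over S) : Over S' := Over.mk (pullback.snd T.hom (q₂ q) ≫ pullback.fst q q)

/-- Reading the overlap over `S'`. -/
def isoT₂ (T : Over S) : (B (q₂ q)).obj T ≅ (Over.map q).obj (T₂ q T) :=
  Over.isoMk (Iso.refl _) (by simp [B, q₂])

variable (F : (Over S)ᵒᵖ ⥤ Type u)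

theorem map_map {A A' A'' : Over S} (a : A'' ⟶ A') (b : A' ⟶ A) (x : F.obj (op A)) :
    F.map a.op (F.map b.op x) = F.map (a ≫ b).op x := by rw [op_comp, Functor.map_comp_apply]

variable (P : Over S') (e : F.obj (op ((Over.map q).obj P)))
  (hP : ∀ (T : Over S') (x : F.obj (op ((Over.map q).obj T))), ∃! g : T ⟶ P, F.map ((Over.map q).map g).op e = x)

/-- The classifier of an element on the overlap. -/
def cls (T : Over S) (x : F.obj (op ((B (q₂ q)).obj T))) : (B (q₂ q)).obj T ⟶ (Over.map q).obj P :=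
  (isoT₂ q T).hom ≫ (Over.map q).map (hP (T₂ q T) (F.map (isoT₂ q T).inv.op x)).exists.choose

theorem map_cls (T : Over S) (x : F.obj (op ((B (q₂ q)).obj T))) :
    F.map (cls q F P e hP T x).op e = x := by
  rw [cls, op_comp, Functor.map_comp_apply, (hP (T₂ q T) (F.map (isoT₂ q T).inv.op x)).exists.choose_spec,
    ← Functor.map_comp_apply, ← op_comp, Iso.hom_inv_id, op_id, Functor.map_id_apply]

theorem cls_unique (T : Over S) {x : F.obj (op ((B (q₂ q)).obj T))} {b : (B (q₂ q)).obj T ⟶ (Over.map q).obj P}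
    (h1 : b.left ≫ P.hom = pullback.snd T.hom (q₂ q) ≫ pullback.fst q q) (h2 : F.map b.op e = x) :
    cls q F P e hP T x = b := by
  let g : T₂ q T ⟶ P := Over.homMk b.left h1
  have hb : (isoT₂ q T).hom ≫ (Over.map q).map g = b := Over.OverMorphism.ext (Category.id_comp _)
  have hg : F.map ((Over.map q).map g).op e = F.map (isoT₂ q T).inv.op x := by
    rw [← h2, ← hb, ← Functor.map_comp_apply, ← op_comp, Iso.inv_hom_id_assoc]
  rw [cls, (hP (T₂ q T) _).unique (hP (T₂ q T) (F.map (isoT₂ q T).inv.op x)).exists.choose_spec hg, hb]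

theorem cls_hom (T : Over S) (x : F.obj (op ((B (q₂ q)).obj T))) :
    (cls q F P e hP T x).left ≫ P.hom = pullback.snd T.hom (q₂ q) ≫ pullback.fst q q :=
  (Category.assoc _ _ _).trans ((congrArg (_ ≫ ·) (Over.w _)).trans (Category.id_comp _))

theorem cls_nat {T T' : Over S} (w : T' ⟶ T) (x : F.obj (op ((B (q₂ q)).obj T))) :
    (B (q₂ q)).map w ≫ cls q F P e hP T x = cls q F P e hP T' (F.map ((B (q₂ q)).map w).op x) := by
  refine (cls_unique q F P e hP T' ?_ ?_).symm
  · rw [Over.comp_left, Category.assoc, cls_hom]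
    simp [B]
  · rw [op_comp, Functor.map_comp_apply, map_cls]

variable (hF : ∀ (T : Over S) (x : F.obj (op ((B q).obj T))), F.map (π₁ q T).op x = F.map (π₂ q T).op x →
  ∃! y : F.obj (op T), F.map (pr q T).op y = x)

/-- The classifier of the restriction of an element. -/
def res (T : Over S) (y : F.obj (op T)) : (B q).obj T ⟶ (Over.map q).obj P :=
  (Over.map q).map (hP ((Over.pullback q).obj T) (F.map (pr q T).op y)).exists.choose

theorem map_res (T : Over S) (y : F.obj (op T)) : F.map (res q F P e hP T y).op e = F.map (pr q T).op y :=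
  (hP ((Over.pullback q).obj T) (F.map (pr q T).op y)).exists.choose_spec

theorem res_hom (T : Over S) (y : F.obj (op T)) : (res q F P e hP T y).left ≫ P.hom = pullback.snd T.hom q :=
  Over.w (hP ((Over.pullback q).obj T) (F.map (pr q T).op y)).exists.choose

theorem res_unique (T : Over S) {y : F.obj (op T)} {b : (B q).obj T ⟶ (Over.map q).obj P}
    (h1 : b.left ≫ P.hom = pullback.snd T.hom q) (h2 : F.map b.op e = F.map (pr q T).op y) :
    res q F P e hP T y = b := by
  let g : (Over.pullback q).obj T ⟶ P := Over.homMk b.left h1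
  have hb : (Over.map q).map g = b := Over.OverMorphism.ext rfl
  rw [res, (hP ((Over.pullback q).obj T) _).unique
    (hP ((Over.pullback q).obj T) (F.map (pr q T).op y)).exists.choose_spec
    (show F.map ((Over.map q).map g).op e = _ by rw [hb]; exact h2), hb]

include hP hF in
/-- The theorem. -/
theorem exists_representableBy (hq : Mor2.IsFinLocFree q)
    (hAF : ∀ (s : S) (d : ℕ) (x : Fin d → P.left), (∀ k, (P.hom ≫ q) (x k) = s) →
      ∃ U : P.left.Opens, IsAffineOpen U ∧ ∀ k, x k ∈ U) :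
    ∃ J : Over S, Nonempty (F.RepresentableBy J) := by
  classical
  haveI := hq.1
  haveI := hq.2.1
  haveI := hq.2.2
  have hq₂ : Mor2.IsFinLocFree (q₂ q) := ⟨inferInstance, inferInstance, inferInstance⟩
  have hAF' : ∀ (s : S) (d : ℕ) (x : Fin d → S'), (∀ k, q (x k) = s) →
      ∃ U : S'.Opens, IsAffineOpen U ∧ ∀ k, x k ∈ U := fun s d x hx => by
    obtain ⟨W, hW, hsW, -⟩ := exists_isAffineOpen_mem_and_subset (U := (⊤ : S.Opens)) (x := s) trivial
    exact ⟨q ⁻¹ᵁ W, hW.preimage q, fun k => show q (x k) ∈ W from (hx k).symm ▸ hsW⟩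
  haveI h0 := S7195.result q (P.hom ≫ q) hq hAF
  haveI h1 := S7195.result q q hq hAF'
  haveI h2 := S7195.result (q₂ q) (P.hom ≫ q) hq₂ hAF
  let r := (Flatn.morS q (P.hom ≫ q)).representableBy
  let r₁ := (Flatn.morS q q).representableBy
  let r₂ := (Flatn.morS (q₂ q) (P.hom ≫ q)).representableBy
  let R := (Flatn.morS q (P.hom ≫ q)).reprX
  let rh : ∀ {T : Over S}, (T ⟶ R) ≃ ((B q).obj T ⟶ (Over.map q).obj P) := fun {T} => r.homEquiv
  let u : (B q).obj R ⟶ (Over.map q).obj P := rh (𝟙 R)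
  let a₁ : R ⟶ _ := r₂.homEquiv.symm (cls q F P e hP R (F.map (π₁ q R ≫ u).op e))
  let a₂ : R ⟶ _ := r₂.homEquiv.symm (cls q F P e hP R (F.map (π₂ q R ≫ u).op e))
  let b₁ : R ⟶ _ := r₁.homEquiv.symm (u ≫ (Over.homMk P.hom rfl : (Over.map q).obj P ⟶ Over.mk q))
  let b₂ : R ⟶ _ := r₁.homEquiv.symm ((Over.homMk (pullback.snd R.hom q) rfl : (B q).obj R ⟶ Over.mk q))
  have hu : ∀ {T : Over S} (t : T ⟶ R), rh t = (B q).map t ≫ u := fun t => r.homEquiv_eq t
  have hrh : ∀ {T T' : Over S} (g : T' ⟶ T) (t : T ⟶ R), rh (g ≫ t) = (B q).map g ≫ rh t :=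
    fun g t => r.homEquiv_comp g t
  have ha : ∀ (π : ∀ T, (B (q₂ q)).obj T ⟶ (B q).obj T)
      (hπ : ∀ {T T' : Over S} (w : T' ⟶ T), (B (q₂ q)).map w ≫ π T = π T' ≫ (B q).map w) {T : Over S} (t : T ⟶ R),
      r₂.homEquiv (t ≫ r₂.homEquiv.symm (cls q F P e hP R (F.map (π R ≫ u).op e))) =
        cls q F P e hP T (F.map (π T ≫ rh t).op e) := fun π hπ T t => by
    rw [r₂.homEquiv_comp, Equiv.apply_symm_apply]
    refine (cls_nat q F P e hP t _).trans (congrArg (cls q F P e hP T) ?_)
    exact (map_map F _ _ e).trans (congrArg (fun m => F.map (Quiver.Hom.op m) e)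
      ((Category.assoc _ _ _).symm.trans ((congrArg (· ≫ u) (hπ t)).trans ((Category.assoc _ _ _).trans
        (congrArg (π T ≫ ·) (hu t).symm)))))
  have hb : ∀ {T : Over S} (t : T ⟶ R), t ≫ b₁ = t ≫ b₂ ↔
      (rh t).left ≫ P.hom = pullback.snd T.hom q := fun {T} t => by
    rw [← r₁.homEquiv.apply_eq_iff_eq, r₁.homEquiv_comp, r₁.homEquiv_comp, Equiv.apply_symm_apply,
      Equiv.apply_symm_apply, hu]
    refine ⟨fun h => ?_, fun h => Over.OverMorphism.ext ?_⟩
    · have h' := congrArg CommaMorphism.left h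
      refine (Category.assoc _ _ _).trans (h'.trans ?_)
      exact pullback.lift_snd _ _ _
    · exact ((Category.assoc _ _ _).symm.trans h).trans (pullback.lift_snd _ _ _).symm
  have hcond : ∀ {T : Over S} (t : T ⟶ R), t ≫ a₁ = t ≫ a₂ ↔
      F.map (π₁ q T).op (F.map (rh t).op e) = F.map (π₂ q T).op (F.map (rh t).op e) := fun {T} t => by
    rw [← r₂.homEquiv.apply_eq_iff_eq]
    refine (Eq.congr (ha (π₁ q) (π₁_nat q) t) (ha (π₂ q) (π₂_nat q) t)).trans ?_
    rw [map_map F (π₁ q T) (rh t) e, map_map F (π₂ q T) (rh t) e]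
    refine ⟨fun h => ?_, fun h => congrArg _ h⟩
    exact ((map_cls q F P e hP T _).symm.trans (congrArg (fun m => F.map (Quiver.Hom.op m) e) h)).trans
      (map_cls q F P e hP T _)
  let ι₁ := equalizer.ι b₁ b₂
  let J := equalizer (ι₁ ≫ a₁) (ι₁ ≫ a₂)
  let i : J ⟶ R := equalizer.ι (ι₁ ≫ a₁) (ι₁ ≫ a₂) ≫ ι₁
  have hi₁ : i ≫ b₁ = i ≫ b₂ := by
    simp only [i, Category.assoc]
    rw [equalizer.condition]
  have hi₂ : i ≫ a₁ = i ≫ a₂ := by
    simp only [i, Category.assoc]
    exact equalizer.condition _ _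
  haveI : Mono i := mono_comp _ _
  obtain ⟨η, hη, -⟩ := hF J (F.map (rh i).op e) ((hcond i).1 hi₂)
  have hpr : ∀ {T : Over S} (g : T ⟶ J), F.map (rh (g ≫ i)).op e = F.map (pr q T).op (F.map g.op η) := fun {T} g => by
    rw [map_map F (pr q T) g η, ← pr_nat, ← map_map F ((B q).map g) (pr q J) η, hη,
      map_map F ((B q).map g) (rh i) e, hrh]
  refine ⟨J, ⟨{
    homEquiv := fun {T} => Equiv.ofBijective (fun g => F.map g.op η) ⟨fun g g' h => ?_, fun y => ?_⟩
    homEquiv_comp := fun g g' => by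
      show F.map (g ≫ g').op η = F.map g.op (F.map g'.op η)
      rw [op_comp, Functor.map_comp_apply] }⟩⟩
  · have hres : ∀ g : T ⟶ J, res q F P e hP T (F.map g.op η) = rh (g ≫ i) := fun g =>
      res_unique q F P e hP T ((hb (g ≫ i)).1 (by simp only [Category.assoc, hi₁])) (hpr g)
    exact (cancel_mono i).1 (rh.injective (by rw [← hres, ← hres]; exact congrArg _ h))
  · let t : T ⟶ R := rh.symm (res q F P e hP T y)
    have ht : rh t = res q F P e hP T y := Equiv.apply_symm_apply _ _
    have hsame : F.map (π₁ q T).op (F.map (pr q T).op y) = F.map (π₂ q T).op (F.map (pr q T).op y) := by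
      rw [map_map F (π₁ q T) (pr q T) y, map_map F (π₂ q T) (pr q T) y, π_pr]
    have h1 : t ≫ b₁ = t ≫ b₂ := (hb t).2 (by rw [ht]; exact res_hom q F P e hP T y)
    have hye : F.map (rh t).op e = F.map (pr q T).op y := by rw [ht]; exact map_res q F P e hP T y
    have h2 : t ≫ a₁ = t ≫ a₂ := (hcond t).2 (by rw [hye]; exact hsame)
    let g : T ⟶ J := equalizer.lift (equalizer.lift t h1) (by
      rw [equalizer.lift_ι_assoc, equalizer.lift_ι_assoc, h2])
    have hg : g ≫ i = t := by simp only [g, i, ι₁, equalizer.lift_ι_assoc, equalizer.lift_ι]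
    refine ⟨g, ?_⟩
    obtain ⟨w, -, hu'⟩ := hF T (F.map (pr q T).op y) hsame
    exact (hu' _ ((hpr g).symm.trans (by rw [hg]; exact hye))).trans (hu' y rfl).symm

end Groth.Agent.DescRep
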