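import Groth.Agent.PicRep.Functor
import Groth.Agent.Jacobian.Main
import Groth.Agent.PicCurveSmooth.Lift
import Groth.Agent.GrpSchLib.AntiAffineHom
import Groth.Agent.AlbQuotLib.Albanese
import Groth.Agent.S1488
import Mathlib.CategoryTheory.Monoidal.Cartesian.CommGrp_
import Mathlib.Algebra.Category.Grp.Basic
import Mathlib.Algebra.Group.Shrink

/-!
# The degree zero part of the rigidified Picard functor
-/

set_option autoImplicit false
set_option maxHeartbeats 1600000
set_option linter.style.haveILetI false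
set_option linter.unusedSectionVars false
set_option backward.isDefEq.respectTransparency false
set_option backward.isDefEq.respectTransparency.types false

universe u

open CategoryTheory CategoryTheory.Limits AlgebraicGeometry TopologicalSpace Opposite

noncomputable section

namespace Groth.Agent.PicRep

open Groth.Agent Groth.Agent.LineDesc.Rig
open Groth.Agent.JacVarLib (InvU Pc pullPc pullPc_val pullPc_comp ext_val out cl_out isInvertible_out)
open scoped Groth.Agent.H23.PicMul

attribute [local instance] GenusOneX.fibreOver GenusOneX.flat_of_family GenusOneX.lfp_of_family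

section Zero

variable {X S : Scheme.{u}} (f : X ⟶ S) [IsProper f] [SmoothOfRelativeDimension 1 f] [GeometricallyConnected f]

/-- The classes of degree zero on all fibres. -/
def PZ (T : Over S) : Subgroup (Pc (PicF.XT f T)) := (GenusOneX.degZero f T).comap (InvU _).subtype

variable {f}

theorem mem_PZ {T : Over S} {v : Pc (PicF.XT f T)} :
    v ∈ PZ f T ↔ ∀ t, DegData.deg f T v.1.val t = 0 :=
  (Jacobian.mem_degZero_iff f).trans ((Jacobian.isPicZeroCl_iff f).trans (and_iff_right v.2))

theorem deg_eq_zero_iff {T : Over S} {L : (PicF.XT f T).Modules} :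
    (∀ t, DegData.deg f T (PicF.cl L) t = 0) ↔ FGA.HasFibreDegreeZero f T L :=
  forall_congr' fun _ => sub_eq_zero

theorem hasZero_iff {T : Over S} {v : Pc (PicF.XT f T)} :
    FGA.HasFibreDegreeZeroCl f T v.1.val ↔ v ∈ PZ f T := by
  rw [mem_PZ]
  refine ⟨fun ⟨L, hL, h⟩ => hL ▸ deg_eq_zero_iff.2 h, fun h => ?_⟩
  obtain ⟨L, hL, -⟩ := v.2
  exact ⟨L, hL, deg_eq_zero_iff.1 (hL ▸ h)⟩

theorem deg_pullPc {T T' : Over S} (g : T' ⟶ T) (v : Pc (PicF.XT f T)) (t' : T'.left) :
    DegData.deg f T' (pullPc (PicF.XTmap f g) v).1.val t' = DegData.deg f T v.1.val (g.left t') := by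
  haveI : Smooth f := SmoothOfRelativeDimension.smooth 1 f
  rw [pullPc_val]
  exact DegData.deg_pullCl f (GenusOneX.fibre_dim f) g v.2 t'

theorem pull_mem_PZ {T T' : Over S} (g : T' ⟶ T) {v : Pc (PicF.XT f T)} (hv : v ∈ PZ f T) :
    pullPc (PicF.XTmap f g) v ∈ PZ f T' :=
  mem_PZ.2 fun t' => (deg_pullPc g v t').trans (mem_PZ.1 hv _)

theorem mem_PZ_of_cover {T : Over S} {v : Pc (PicF.XT f T)} (h : ∀ t : T.left, ∃ (T' : Over S) (g : T' ⟶ T) (t' : T'.left),
    g.left t' = t ∧ pullPc (PicF.XTmap f g) v ∈ PZ f T') : v ∈ PZ f T :=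
  mem_PZ.2 fun t => by
    obtain ⟨T', g, t', rfl, hv⟩ := h t
    rw [← deg_pullPc g v t']
    exact mem_PZ.1 hv t'

theorem base_mem_PZ {T : Over S} (m : Pc T.left) : pullPc (PicF.XTproj f T) m ∈ PZ f T := by
  refine ⟨(Scheme.Modules.pullback (PicF.XTproj f T)).obj (out m),
    PicClLib.isInvertible_pullback _ (isInvertible_out m), ?_, fun t => ?_⟩
  · rw [show ((InvU _).subtype (pullPc (PicF.XTproj f T) m)).val = (pullPc (PicF.XTproj f T) m).1.val from rfl,
      pullPc_val, ← cl_out m]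
    rfl
  · exact GenusOneX.deg_pullback_base (PicF.XTproj f T) t (isInvertible_out m)

variable (f) (σ : S ⟶ X) (hσ : σ ≫ f = 𝟙 S)

/-- Rigidified classes of degree zero. -/
def RZ (T : Over S) : Subgroup (Pc (PicF.XT f T)) := RP f σ hσ T ⊓ PZ f T

instance small_RZ (T : Over S) : Small.{u} (RZ f σ hσ T) :=
  small_of_injective (f := fun v : RZ f σ hσ T => (⟨v.1, v.2.1⟩ : RP f σ hσ T))
    fun _ _ h => Subtype.ext (congrArg (fun z : RP f σ hσ T => z.1) h)

variable {f σ hσ}

theorem rho_mem_RZ {T : Over S} {v : Pc (PicF.XT f T)} (hv : v ∈ PZ f T) : rho f σ hσ v ∈ RZ f σ hσ T :=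
  ⟨rho_mem v, (PZ f T).mul_mem hv ((PZ f T).inv_mem (base_mem_PZ _))⟩

/-- The pullback of rigidified classes of degree zero. -/
def pullRZ {T T' : Over S} (g : T' ⟶ T) : RZ f σ hσ T →* RZ f σ hσ T' :=
  ((pullPc (PicF.XTmap f g)).comp (RZ f σ hσ T).subtype).codRestrict _
    fun v => ⟨pull_mem_RP g v.2.1, pull_mem_PZ g v.2.2⟩

variable (f σ hσ) in
/-- The degree zero rigidified Picard functor, as commutative groups. -/
def grp0 : (Over S)ᵒᵖ ⥤ CommGrpCat.{u} where
  obj T := CommGrpCat.of (Shrink.{u} (RZ f σ hσ T.unop))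
  map {T T'} g := CommGrpCat.ofHom ((Shrink.mulEquiv (α := RZ f σ hσ T'.unop)).symm.toMonoidHom.comp
    ((pullRZ g.unop).comp (Shrink.mulEquiv (α := RZ f σ hσ T.unop)).toMonoidHom))
  map_id T := by
    refine CommGrpCat.hom_ext (MonoidHom.ext fun x => ?_)
    refine (Equiv.apply_eq_iff_eq_symm_apply (equivShrink (RZ f σ hσ T.unop))).2 (Subtype.ext ?_)
    show pullPc (PicF.XTmap f (𝟙 T.unop)) ((equivShrink (RZ f σ hσ T.unop)).symm x).1 = _
    rw [XTmap_id, pullPc_id]
    rfl
  map_comp {T T' T''} g h := by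
    refine CommGrpCat.hom_ext (MonoidHom.ext fun x => ?_)
    refine congrArg (equivShrink (RZ f σ hσ T''.unop)) (Subtype.ext ?_)
    show pullPc (PicF.XTmap f (h.unop ≫ g.unop)) _ = pullPc (PicF.XTmap f h.unop) _
    rw [← XTmap_comp, ← pullPc_comp]
    refine congrArg (pullPc (PicF.XTmap f h.unop)) ?_
    exact (congrArg Subtype.val ((equivShrink (RZ f σ hσ T'.unop)).symm_apply_apply
      (pullRZ g.unop ((equivShrink (RZ f σ hσ T.unop)).symm x)))).symm

variable (f σ hσ) in
/-- The degree zero rigidified Picard functor. -/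
abbrev funct0 : (Over S)ᵒᵖ ⥤ Type u := grp0 f σ hσ ⋙ forget CommGrpCat

/-- The class underlying an element. -/
def val0 {T : Over S} (x : (funct0 f σ hσ).obj (op T)) : Pc (PicF.XT f T) :=
  ((equivShrink (RZ f σ hσ T)).symm x).1

theorem val0_mem {T : Over S} (x : (funct0 f σ hσ).obj (op T)) : val0 x ∈ RZ f σ hσ T :=
  ((equivShrink (RZ f σ hσ T)).symm x).2

theorem val0_injective {T : Over S} : Function.Injective (val0 (f := f) (σ := σ) (hσ := hσ) (T := T)) :=
  fun _ _ h => (equivShrink (RZ f σ hσ T)).symm.injective (Subtype.ext h)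

theorem val0_map {T T' : Over S} (g : T' ⟶ T) (x : (funct0 f σ hσ).obj (op T)) :
    val0 ((funct0 f σ hσ).map g.op x) = pullPc (PicF.XTmap f g) (val0 x) :=
  congrArg Subtype.val ((equivShrink (RZ f σ hσ T')).symm_apply_apply _)

/-- An element from a class. -/
def elt0 {T : Over S} (v : Pc (PicF.XT f T)) (hv : v ∈ RZ f σ hσ T) : (funct0 f σ hσ).obj (op T) :=
  equivShrink (RZ f σ hσ T) ⟨v, hv⟩

theorem val0_elt0 {T : Over S} (v : Pc (PicF.XT f T)) (hv : v ∈ RZ f σ hσ T) : val0 (elt0 v hv) = v :=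
  congrArg Subtype.val ((equivShrink (RZ f σ hσ T)).symm_apply_apply _)

variable (ha : ∀ (Z : Scheme.{u}) (z : Z ⟶ S), Function.Bijective (pullback.snd f z).appTop)

include ha in
/-- Degree zero is local, so the degree zero part is a Zariski sheaf. -/
theorem isSheaf_funct0 : Presheaf.IsSheaf (Scheme.zariskiTopology.over S) (funct0 f σ hσ) := by
  have hF := (isSheaf_iff_isSheaf_of_type _ _).1 (isSheaf_funct (f := f) (σ := σ) (hσ := hσ) ha)
  rw [isSheaf_iff_isSheaf_of_type]
  intro T R hR x hx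
  let x' : Presieve.FamilyOfElements (funct f σ hσ) (R : Presieve T) := fun W w hw =>
    elt (val0 (x w hw)) (val0_mem _).1
  have hx' : x'.Compatible := fun W₁ W₂ W g₁ g₂ f₁ f₂ h₁ h₂ e => val_injective (by
    rw [val_map, val_map, val_elt, val_elt, ← val0_map, ← val0_map]
    exact congrArg val0 (hx g₁ g₂ h₁ h₂ e))
  obtain ⟨y, hy, huniq⟩ := hF R hR x' hx'
  have hy' : ∀ {W : Over S} (w : W ⟶ T) (hw : R w), pullPc (PicF.XTmap f w) (val y) = val0 (x w hw) :=
    fun w hw => (val_map w y).symm.trans ((congrArg val (hy w hw)).trans (val_elt _ _))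
  have hz : val y ∈ PZ f T := mem_PZ_of_cover fun t => by
    have hR' := hR
    rw [GrothendieckTopology.mem_over_iff] at hR'
    obtain ⟨R', hR'', hle⟩ := Precoverage.mem_toGrothendieck_iff_of_isStableUnderComposition.1 hR'
    obtain ⟨(𝒰 : Scheme.OpenCover T.left), rfl⟩ := Scheme.exists_cover_of_mem_pretopology hR''
    obtain ⟨u, hu⟩ := Scheme.Cover.covers 𝒰 t
    have hw : R (AbDual.ovrHom T (𝒰.f (Scheme.Cover.idx 𝒰 t))) :=
      (Sieve.overEquiv_iff R _).1 (hle _ _ (Presieve.ofArrows.mk _))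
    exact ⟨_, AbDual.ovrHom T _, u, hu, by rw [hy' _ hw]; exact (val0_mem _).2⟩
  refine ⟨elt0 (val y) ⟨val_mem y, hz⟩, fun W w hw => val0_injective ?_, fun y₀ hy₀ => val0_injective ?_⟩
  · rw [val0_map, val0_elt0]; exact hy' w hw
  · have := huniq (elt (val0 y₀) (val0_mem y₀).1) fun W w hw => val_injective (by
      rw [val_map, val_elt, val_elt, ← val0_map, hy₀ w hw])
    rw [val0_elt0, ← this, val_elt]

/-- A universal rigidified class of degree zero. -/
structure Univ0 (f : X ⟶ S) (σ : S ⟶ X) (hσ : σ ≫ f = 𝟙 S) (J : Over S) where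
  ξ : PicF.Rig f σ hσ J
  zero : FGA.HasFibreDegreeZeroCl f J ξ.1
  univ : ∀ (T : Over S) (c : PicF.Rig f σ hσ T), FGA.HasFibreDegreeZeroCl f T c.1 →
    ∃! g : T ⟶ J, PicF.pullCl (PicF.XTmap f g) ξ.1 = c.1

theorem hasZero_toPc {T : Over S} (c : PicF.Rig f σ hσ T) :
    FGA.HasFibreDegreeZeroCl f T c.1 ↔ toPc c.1 c.2.1 ∈ RZ f σ hσ T := by
  conv_lhs => rw [← toPc_val c.1 c.2.1]
  exact hasZero_iff.trans ⟨fun h => ⟨toPc_mem_RP c, h⟩, And.right⟩

/-- The universal class of a representing scheme. -/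
def univOfRep {J : Over S} (r : (funct0 f σ hσ).RepresentableBy J) : Univ0 f σ hσ J where
  ξ := toRig ⟨val0 (r.homEquiv (𝟙 J)), (val0_mem _).1⟩
  zero := hasZero_iff.2 (val0_mem _).2
  univ T c hc := by
    have key : ∀ g : T ⟶ J,
        PicF.pullCl (PicF.XTmap f g) (val0 (r.homEquiv (𝟙 J))).1.val = (val0 (r.homEquiv g)).1.val := fun g => by
      rw [r.homEquiv_eq g, val0_map, pullPc_val]
    let y := elt0 (toPc c.1 c.2.1) ((hasZero_toPc c).1 hc)
    have hy : (val0 y).1.val = c.1 := by rw [val0_elt0, toPc_val]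
    refine ⟨r.homEquiv.symm y, ?_, fun g hg => ?_⟩
    · show PicF.pullCl _ _ = _
      refine (key _).trans ?_
      rw [Equiv.apply_symm_apply, hy]
    · refine r.homEquiv.injective (val0_injective (ext_val ?_))
      rw [Equiv.apply_symm_apply, ← key, hy]
      exact hg

/-- A universal class gives a representation. -/
def Univ0.rep {J : Over S} (U : Univ0 f σ hσ J) : (funct0 f σ hσ).RepresentableBy J :=
  let e : ∀ T : Over S, (T ⟶ J) → (funct0 f σ hσ).obj (op T) := fun T g =>
    (funct0 f σ hσ).map g.op (elt0 (toPc U.ξ.1 U.ξ.2.1) ((hasZero_toPc U.ξ).1 U.zero))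
  have he : ∀ T (g : T ⟶ J), (val0 (e T g)).1.val = PicF.pullCl (PicF.XTmap f g) U.ξ.1 := fun T g => by
    rw [val0_map, pullPc_val, val0_elt0, toPc_val]
  { homEquiv := fun {T} => Equiv.ofBijective (e T) ⟨fun g g' h => by
        have hc := hasZero_iff.2 (val0_mem (e T g)).2
        obtain ⟨g₀, -, hu⟩ := U.univ T (toRig ⟨val0 (e T g), (val0_mem _).1⟩) hc
        exact (hu g (he T g).symm).trans (hu g' ((he T g').symm.trans (by rw [← h]; rfl))).symm,
      fun x => by
        obtain ⟨g, hg, -⟩ := U.univ T (toRig ⟨val0 x, (val0_mem _).1⟩) (hasZero_iff.2 (val0_mem x).2)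
        exact ⟨g, val0_injective (ext_val ((he T g).trans hg))⟩⟩
    homEquiv_comp := fun g g' => by
      show (funct0 f σ hσ).map (g ≫ g').op _ = (funct0 f σ hσ).map g.op ((funct0 f σ hσ).map g'.op _)
      rw [op_comp, Functor.map_comp_apply] }

variable {J : Over S} (r : (funct0 f σ hσ).RepresentableBy J)

/-- The classifying map on classes. -/
def phi0 (T : Over S) (c : PicF.Cl (PicF.XT f T)) : T ⟶ J :=
  open Classical in
  if h : AbDual.IsPicZeroCl f T c then
    r.homEquiv.symm (elt0 (rho f σ hσ (toPc c ((Jacobian.isPicZeroCl_iff f).1 h).1))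
      (rho_mem_RZ (mem_PZ.2 fun t => by rw [toPc_val]; exact ((Jacobian.isPicZeroCl_iff f).1 h).2 t)))
  else r.homEquiv.symm (elt0 1 (one_mem _))

theorem val0_phi0 {T : Over S} {c : PicF.Cl (PicF.XT f T)} (h : AbDual.IsPicZeroCl f T c) :
    val0 (r.homEquiv (phi0 r T c)) = rho f σ hσ (toPc c ((Jacobian.isPicZeroCl_iff f).1 h).1) := by
  rw [phi0, dif_pos h, Equiv.apply_symm_apply, val0_elt0]

theorem isPicZeroCl_of_mem {T : Over S} {v : Pc (PicF.XT f T)} (hv : v ∈ PZ f T) : AbDual.IsPicZeroCl f T v.1.val :=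
  (Jacobian.isPicZeroCl_iff f).2 ⟨v.2, mem_PZ.1 hv⟩

/-- A representing scheme is a Picard scheme of degree zero in the sense of sheafification. -/
theorem isRelPicZero : AbDual.IsRelPicZeroK Scheme.fppfPrecoverage f J (phi0 r) where
  natural T T' g c hc := by
    refine r.homEquiv.injective (val0_injective ?_)
    rw [r.homEquiv_comp, val0_map, val0_phi0 r hc, val0_phi0 r (Jacobian.isPicZeroCl_pull f g hc), pull_rho]
    refine congrArg (rho f σ hσ) (ext_val ?_)
    rw [pullPc_val, toPc_val, toPc_val]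
  locallySurjective T g := by
    refine ⟨Presieve.singleton (𝟙 T.left), Precoverage.mem_coverings_of_isIso (J := Scheme.fppfPrecoverage) _, ?_⟩
    rintro U u ⟨⟩
    have hm := val0_mem (r.homEquiv (AbDual.ovrHom T (𝟙 T.left) ≫ g))
    refine ⟨_, isPicZeroCl_of_mem hm.2, r.homEquiv.injective (val0_injective ?_)⟩
    rw [val0_phi0 r (isPicZeroCl_of_mem hm.2)]
    exact (congrArg (rho f σ hσ) (ext_val (toPc_val _ _))).trans (rho_eq_self hm.1)
  locallyInjective T c c' hc hc' h := by
    have h1 := congrArg (fun g => val0 (r.homEquiv g)) h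
    simp only [val0_phi0 r hc, val0_phi0 r hc'] at h1
    obtain ⟨m, hm⟩ := rho_eq_iff.1 h1
    have hloc : ∀ t : T.left, ∃ V : T.left.Opens, t ∈ V ∧ pullPc V.ι m = 1 := fun t => by
      obtain ⟨V, ht, ⟨e⟩⟩ := isInvertible_out m t
      refine ⟨V, ht, ext_val ?_⟩
      rw [pullPc_val, ← cl_out]
      exact H23.PicMul.cl_eq_iff.2 ⟨((Scheme.Modules.restrictFunctorIsoPullback V.ι).app (out m)).symm ≪≫ e⟩
    choose V hV hm1 using hloc
    let 𝒰 : Scheme.OpenCover.{u} T.left := Scheme.openCoverOfIsOpenCover T.left V (by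
      rw [TopologicalSpace.IsOpenCover, eq_top_iff]
      exact fun t _ => TopologicalSpace.Opens.mem_iSup.2 ⟨t, hV t⟩)
    refine ⟨𝒰.presieve₀, Scheme.zariskiPrecoverage_le_fppfPrecoverage _ 𝒰.mem₀, ?_⟩
    rintro U u ⟨i⟩
    let w := AbDual.ovrHom T (V i).ι
    have e : pullPc (PicF.XTmap f w) (toPc c ((Jacobian.isPicZeroCl_iff f).1 hc).1) =
        pullPc (PicF.XTmap f w) (toPc c' ((Jacobian.isPicZeroCl_iff f).1 hc').1) := by
      rw [hm, map_mul, pullPc_comp, XTmap_snd, ← pullPc_comp]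
      show _ * pullPc _ (pullPc (V i).ι m) = _
      rw [hm1, map_one, mul_one]
    have e' := congrArg (fun z : Pc _ => z.1.val) e
    simp only [pullPc_val, toPc_val] at e'
    exact e'

include r in
theorem isFormallySmooth_hom : MoreMor.IsFormallySmoothHom J.hom := by
  haveI : Smooth f := SmoothOfRelativeDimension.smooth 1 f
  intro A _ I hI a b hab
  let j : Spec (CommRingCat.of (A ⧸ I)) ⟶ Spec (CommRingCat.of A) :=
    Spec.map (CommRingCat.ofHom (Ideal.Quotient.mk I))
  let T : Over S := Over.mk b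
  let a' : AbDual.ovr T j ⟶ J := Over.homMk a hab.symm
  let v := val0 (r.homEquiv a')
  have hv := val0_mem (r.homEquiv a')
  let i := PicF.XTmap f (AbDual.ovrHom T j)
  have hsq : IsPullback i (pullback.snd f (AbDual.ovr T j).hom) (pullback.snd f T.hom) j :=
    LineDesc.Rig.isPullback_XTmap (AbDual.ovrHom T j)
  haveI : IsClosedImmersion j := IsClosedImmersion.spec_of_surjective _ Ideal.Quotient.mk_surjective
  haveI : IsClosedImmersion i := MorphismProperty.of_isPullback (P := @IsClosedImmersion) hsq.flip inferInstance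
  let K := i.ker
  have hK : K * K = ⊥ := PicCurveSmooth.mul_ker_eq_bot I hI hsq
  letI : (PicF.XT f T).Over (Spec (CommRingCat.of A)) := ⟨pullback.snd f T.hom⟩
  haveI : IsProper ((PicF.XT f T) ↘ Spec (CommRingCat.of A)) := inferInstanceAs (IsProper (pullback.snd f T.hom))
  have h2 : Subsingleton (Coh.HH (PicF.XT f T) (ClSub.idealMod K) 2) :=
    FibVanNN.subsingleton_HH_of_fibres (A := A) (d := 1) (fun t => PicCurveSmooth.dim_fiber_baseChange_le f T.hom
      (fun s => (GenusOneX.fibre_dim f s).le.trans (by norm_num)) t) (BlowUpX.isQCoh_idealMod K) one_lt_two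
  have hcc : PicF.IsInvertibleCl (PicF.pullCl (inv i.toImage) v.1.val) := PicLoc.isInvertibleCl_pullCl _ v.2
  obtain ⟨d, hdi, hde⟩ := S19504.result _ K hK h2 (PicF.pullCl (inv i.toImage) v.1.val) hcc
  let D : Pc (PicF.XT f T) := toPc d hdi
  have hpull : pullPc (PicF.XTmap f (AbDual.ovrHom T j)) D = v := ext_val (by
    rw [pullPc_val, toPc_val]
    show PicF.pullCl i d = _
    conv_lhs => rw [← i.toImage_imageι]
    rw [PicLoc.pullCl_comp, show PicF.pullCl i.imageι d = _ from hde, ← PicLoc.pullCl_comp, IsIso.hom_inv_id,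
      PicLoc.pullCl_id])
  have hD : D ∈ PZ f T := mem_PZ_of_cover fun t => by
    haveI : Surjective j := by
      refine ⟨fun p => ?_⟩
      have : I ≤ (p : PrimeSpectrum A).asIdeal := fun x hx => (p : PrimeSpectrum A).isPrime.mem_of_pow_mem 2 (by
        rw [show x ^ 2 = 0 by
          have := Ideal.pow_mem_pow hx 2
          rwa [hI, Ideal.mem_bot] at this]
        exact zero_mem _)
      have h := range_comap_of_surjective (A ⧸ I) (Ideal.Quotient.mk I) Ideal.Quotient.mk_surjective
      rw [Ideal.mk_ker] at h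
      exact (h.symm ▸ this : (p : PrimeSpectrum A) ∈ Set.range (PrimeSpectrum.comap (Ideal.Quotient.mk I)))
    obtain ⟨t', ht'⟩ := j.surjective t
    exact ⟨_, AbDual.ovrHom T j, t', ht', by rw [hpull]; exact hv.2⟩
  let g := r.homEquiv.symm (elt0 (rho f σ hσ D) (rho_mem_RZ hD))
  have key : AbDual.ovrHom T j ≫ g = a' := r.homEquiv.injective (val0_injective (by
    rw [r.homEquiv_comp, val0_map, Equiv.apply_symm_apply, val0_elt0, pull_rho, hpull]
    exact rho_eq_self hv.1))
  exact ⟨g.left, congrArg CommaMorphism.left key, Over.w g⟩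

include r in
theorem smooth_hom [LocallyOfFinitePresentation J.hom] : Smooth J.hom :=
  (S1488.result J.hom).2 ⟨inferInstance, isFormallySmooth_hom r⟩

end Zero

section Field

variable {k : Type u} [Field k] {X : Scheme.{u}} {f : X ⟶ Spec (CommRingCat.of k)} [IsProper f]
  [SmoothOfRelativeDimension 1 f] [GeometricallyConnected f] {σ : Spec (CommRingCat.of k) ⟶ X} {hσ : σ ≫ f = 𝟙 _}
  {J : Over (Spec (CommRingCat.of k))} (r : (funct0 f σ hσ).RepresentableBy J)

/-- The group structure of a representing scheme. -/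
@[instance_reducible]
def commGrpObj : CommGrpObj J := CommGrpObj.ofRepresentableBy J (grp0 f σ hσ) r

include r in
/-- A representing scheme of finite presentation is an abelian variety. -/
theorem isAbelian_of_rep [LocallyOfFinitePresentation J.hom] :
    IsProper J.hom ∧ Smooth J.hom ∧ GeometricallyConnected J.hom ∧ GeometricallyIntegral J.hom := by
  haveI := smooth_hom r
  letI := commGrpObj r
  haveI : IsSeparated J.hom := GrpSchLib.AntiAffine.isSeparated_grp J
  have hp := Jacobian.isProper_hom f (isRelPicZero r)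
  have hc := Jacobian.geometricallyConnected_hom f (isRelPicZero r)
  haveI := hp; haveI := hc
  haveI : ConnectedSpace J.left := by
    haveI : ConnectedSpace ↥(pullback J.hom (𝟙 (Spec (CommRingCat.of k)))) :=
      GeometricallyConnected.geometrically_connectedSpace (f := J.hom) (𝟙 _) _ _ (IsPullback.of_hasPullback _ _)
    exact (pullback.fst J.hom (𝟙 (Spec (CommRingCat.of k)))).surjective.connectedSpace
      (pullback.fst J.hom (𝟙 (Spec (CommRingCat.of k)))).continuous
  exact ⟨hp, inferInstance, hc, AlbQuotLib.geometricallyIntegral J⟩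

end Field

end Groth.Agent.PicRep
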