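import Groth.Agent.PicRep.DivClass
import Groth.Agent.PicRep.Zero
import Groth.Agent.JacVarLib.Div
import Groth.Agent.Bounded.Family
import Groth.Agent.CurveCohLib.Nonspecial

/-!
# Goodness and degree at geometric points; dropping sections at given points
-/

set_option autoImplicit false
set_option maxHeartbeats 1600000
set_option linter.style.haveILetI false
set_option linter.unusedSectionVars false
set_option backward.isDefEq.respectTransparency false
set_option backward.isDefEq.respectTransparency.types false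

universe u

open CategoryTheory CategoryTheory.Limits AlgebraicGeometry TopologicalSpace Opposite

noncomputable section

namespace Groth.Agent.PicRep

open Groth.Agent
open Groth.Agent.JacVarLib (InvU Pc pullPc pullPc_val pullPc_comp ext_val out cl_out isInvertible_out Pt dg hz O gen)
open scoped Groth.Agent.H23.PicMul

theorem betti_specField {k : Type u} [Field k] {X : Scheme.{u}} [X.Over (Spec (CommRingCat.of k))]
    [IsProper (X ↘ Spec (CommRingCat.of k))] {G : X.Modules} (hG : Coh.IsQCoh G) (pt : Spec (CommRingCat.of k)) (i : ℕ) :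
    PerfAux.betti (X ↘ Spec (CommRingCat.of k)) G pt i = Module.finrank k (Coh.HH X G i) := by
  let str := X ↘ Spec (CommRingCat.of k)
  let κ := (Spec (CommRingCat.of k)).residueField pt
  let α : CommRingCat.of k ⟶ κ := Spec.preimage ((Spec (CommRingCat.of k)).fromSpecResidueField pt)
  letI : Algebra k κ := α.hom.toAlgebra
  letI : (str.fiber pt).Over (Spec (CommRingCat.of κ)) := ⟨str.fiberToSpecResidueField pt⟩
  haveI : IsProper (str.fiber pt ↘ Spec (CommRingCat.of κ)) := HilbFib.isProper_fibre str pt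
  haveI : IsNoetherian X := CurveCohLib.isNoetherian_of_proper (k := k)
  have hpb : IsPullback (str.fiberι pt) (str.fiber pt ↘ Spec (CommRingCat.of κ)) (X ↘ Spec (CommRingCat.of k))
      (Spec.map (CommRingCat.ofHom (algebraMap k κ))) := by
    rw [show Spec.map (CommRingCat.ofHom (algebraMap k κ)) = (Spec (CommRingCat.of k)).fromSpecResidueField pt
      from Spec.map_preimage _]
    exact IsPullback.of_hasPullback _ _
  exact CurveBC.finrank_hh k κ (str.fiberι pt) hpb G hG i

section Geom

attribute [local instance] Jacobian.curveOver GenusOneX.fibreOver GenusOneX.flat_of_family GenusOneX.lfp_of_family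

variable {X S : Scheme.{u}} (f : X ⟶ S) [IsProper f] [SmoothOfRelativeDimension 1 f] [GeometricallyConnected f]
  {Ω : Type u} [Field Ω] [IsAlgClosed Ω] (τ : Spec (CommRingCat.of Ω) ⟶ S)

theorem isQCoh_out (v : Pc (PicF.XT f (Over.mk τ))) : Coh.IsQCoh (out v) :=
  ProjUPX.isQCoh_of_isInvertible (isInvertible_out v)

theorem euler_out (v : Pc (PicF.XT f (Over.mk τ))) :
    Curv2.euler Ω (PicF.XT f (Over.mk τ)) (out v) =
      dg Ω v + (1 - (Curv2.genus Ω (PicF.XT f (Over.mk τ)) : ℤ)) := by
  have hd := Jacobian.curve_dim f τ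
  rw [← CurveCohLib.Nonspecial.euler_structure Ω hd (CurveNondeg.h0_structure Ω)]
  unfold JacVarLib.dg Curv2.deg
  push_cast
  ring

theorem good_iff (v : Pc (PicF.XT f (Over.mk τ))) (pt : Spec (CommRingCat.of Ω)) :
    Good (PicF.XTproj f (Over.mk τ)) v pt ↔
      Curv2.euler Ω (PicF.XT f (Over.mk τ)) (out v) = 1 ∧
        Module.finrank Ω (Coh.HH (PicF.XT f (Over.mk τ)) (out v) 1) = 0 := by
  have h1 : PerfAux.eulerChar (PicF.XTproj f (Over.mk τ)) (out v) pt = Curv2.euler Ω (PicF.XT f (Over.mk τ)) (out v) :=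
    Bounded.χ_specField (X := PicF.XT f (Over.mk τ)) (isQCoh_out f τ v) pt
  have h2 : PerfAux.betti (PicF.XTproj f (Over.mk τ)) (out v) pt 1 =
      Module.finrank Ω (Coh.HH (PicF.XT f (Over.mk τ)) (out v) 1) :=
    betti_specField (X := PicF.XT f (Over.mk τ)) (isQCoh_out f τ v) pt 1
  unfold Good
  rw [h1, h2]

omit [IsAlgClosed Ω] in
/-- Degree as a difference of fibre Euler characteristics. -/
theorem deg_eq_sub {T : Over S} (v : Pc (PicF.XT f T)) (t : T.left) :
    DegData.deg f T v.1.val t = PerfAux.eulerChar (PicF.XTproj f T) (out v) t -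
      PerfAux.eulerChar (PicF.XTproj f T) (Coh.structureModule (PicF.XT f T)) t := by
  haveI : Smooth f := SmoothOfRelativeDimension.smooth 1 f
  have hd := GenusOneX.fibre_dim f
  rw [DegData.eulerChar_eq f hd T (ProjUPX.isQCoh_of_isInvertible (isInvertible_out v)),
    DegData.eulerChar_eq f hd T (ProjUPX.isQCoh_of_isInvertible InvX.isInvertible_structureModule), ← cl_out v]
  obtain ⟨e⟩ := PicClLib.nonempty_pullback_structureModule
    (pullback.fst (PicF.XTproj f T) (T.left.fromSpecResidueField t))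
  exact congrArg₂ (· - ·) rfl (Finset.sum_congr rfl fun i _ => congrArg (fun z : ℕ => (-1 : ℤ) ^ i * (z : ℤ))
    (CurveCohLib.hhEquiv (k := T.left.residueField t) (X := (FGA.fibreAt f T t).left) e i).finrank_eq.symm)

theorem deg_eq_dg (v : Pc (PicF.XT f (Over.mk τ))) (pt : Spec (CommRingCat.of Ω)) :
    DegData.deg f (Over.mk τ) v.1.val pt = dg Ω v := by
  have hq : Coh.IsQCoh (Coh.structureModule (PicF.XT f (Over.mk τ))) :=
    ProjUPX.isQCoh_of_isInvertible InvX.isInvertible_structureModule
  refine (deg_eq_sub f (T := Over.mk τ) v pt).trans ?_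
  refine (congrArg₂ (· - ·) (Bounded.χ_specField (X := PicF.XT f (Over.mk τ)) (isQCoh_out f τ v) pt)
    (Bounded.χ_specField (X := PicF.XT f (Over.mk τ)) hq pt)).trans ?_
  unfold JacVarLib.dg Curv2.deg
  push_cast
  rw [one_mul]

theorem dg_of_good {v : Pc (PicF.XT f (Over.mk τ))} {pt : Spec (CommRingCat.of Ω)}
    (h : Good (PicF.XTproj f (Over.mk τ)) v pt) : dg Ω v = Curv2.genus Ω (PicF.XT f (Over.mk τ)) := by
  have h1 := euler_out f τ v
  rw [((good_iff f τ v pt).1 h).1] at h1
  omega

/-- Every point has a geometric point over it. -/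
theorem exists_geom {T : Over S} (t : T.left) :
    ∃ (Ω : Type u) (_ : Field Ω) (_ : IsAlgClosed Ω) (τ : Spec (CommRingCat.of Ω) ⟶ S) (g : Over.mk τ ⟶ T),
      g.left (IsLocalRing.closedPoint Ω) = t := by
  let Ω := AlgebraicClosure (T.left.residueField t)
  let b : Spec (CommRingCat.of Ω) ⟶ T.left :=
    Spec.map (CommRingCat.ofHom (algebraMap (T.left.residueField t) Ω)) ≫ T.left.fromSpecResidueField t
  exact ⟨Ω, inferInstance, inferInstance, b ≫ T.hom, Over.homMk b rfl,
    by show b (IsLocalRing.closedPoint Ω) = t; rw [Scheme.Hom.comp_apply]; exact Scheme.fromSpecResidueField_apply _ _⟩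

/-- Degree is additive. -/
theorem deg_mul' {T : Over S} (v w : Pc (PicF.XT f T)) (t : T.left) :
    DegData.deg f T (v * w).1.val t = DegData.deg f T v.1.val t + DegData.deg f T w.1.val t := by
  obtain ⟨Ω, _, _, τ, g, rfl⟩ := exists_geom t
  rw [← deg_pullPc g, ← deg_pullPc g, ← deg_pullPc g, deg_eq_dg f τ, deg_eq_dg f τ, deg_eq_dg f τ, map_mul,
    JacVarLib.dg_mul Ω (Jacobian.curve_dim f τ)]

theorem deg_inv' {T : Over S} (v : Pc (PicF.XT f T)) (t : T.left) :
    DegData.deg f T (v⁻¹).1.val t = -DegData.deg f T v.1.val t := by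
  obtain ⟨Ω, _, _, τ, g, rfl⟩ := exists_geom t
  rw [← deg_pullPc g, ← deg_pullPc g, deg_eq_dg f τ, deg_eq_dg f τ, map_inv,
    JacVarLib.dg_inv Ω (Jacobian.curve_dim f τ)]

end Geom

section Drop

variable (k : Type u) [Field k] [IsAlgClosed k] {C : Scheme.{u}} [C.Over (Spec (CommRingCat.of k))] [IsIntegral C]
  [IsProper (C ↘ Spec (CommRingCat.of k))] [Smooth (C ↘ Spec (CommRingCat.of k))] (hdim : topologicalKrullDim C = 1)

open JacVarLib

include hdim in
/-- Among more points than the degree, some section generates at one of them. -/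
theorem exists_mem_gen {w : Pc C} {N : ℕ} (Q : Fin N → Pt C) (hQ : Function.Injective Q) (h : 0 < hz k w)
    (hN : dg k w < N) : ∃ i, (Q i).1 ∈ gen w := by
  classical
  by_contra hne
  push Not at hne
  have key : ∀ A : Finset (Fin N), hz k (w / ∏ i ∈ A, O k hdim (Q i)) = hz k w ∧
      ∀ j ∉ A, (Q j).1 ∉ gen (w / ∏ i ∈ A, O k hdim (Q i)) := by
    intro A
    induction A using Finset.induction_on with
    | empty => simpa using hne
    | @insert a A ha ih =>
      obtain ⟨h1, h2⟩ := ih
      have e : w / ∏ i ∈ insert a A, O k hdim (Q i) = w / (∏ i ∈ A, O k hdim (Q i)) / O k hdim (Q a) := by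
        rw [Finset.prod_insert ha, mul_comm, div_mul_eq_div_div]
      refine ⟨by rw [e, ← (hz_div_O k hdim _ (Q a)).2 (h2 a ha)]; exact h1, fun j hj hmem => ?_⟩
      rw [e] at hmem
      have := mem_gen_mul_O k hdim (x := Q a) hmem fun he =>
        hj (Finset.mem_insert.2 (Or.inl (hQ (Subtype.ext he))))
      rw [div_mul_cancel] at this
      exact h2 j (fun hjA => hj (Finset.mem_insert_of_mem hjA)) this
  obtain ⟨h1, -⟩ := key Finset.univ
  have hd : dg k (w / ∏ i, O k hdim (Q i)) < 0 := by
    rw [dg_div k hdim, dg_prod k hdim]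
    simp only [dg_O k hdim, Finset.sum_const, Finset.card_univ, Fintype.card_fin, nsmul_eq_mul, mul_one]
    omega
  rw [hz_of_dg_neg k hdim hd] at h1
  omega

include hdim in
/-- Sections drop down to one at the given points. -/
theorem exists_drop_list {N : ℕ} (Q : Fin N → Pt C) (hQ : Function.Injective Q) : ∀ (n : ℕ) (w : Pc C),
    dg k w = Curv2.genus k C + n → hz k w = n + 1 → Curv2.genus k C + n < N →
    ∃ i : Fin n → Fin N, dg k (w / ∏ t, O k hdim (Q (i t))) = Curv2.genus k C ∧
      hz k (w / ∏ t, O k hdim (Q (i t))) = 1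
  | 0, w, hd, hh, _ => ⟨fun t => t.elim0, by simpa using hd, by simpa using hh⟩
  | n + 1, w, hd, hh, hN => by
    obtain ⟨a, ha⟩ := exists_mem_gen k hdim Q hQ (w := w) (by omega) (by omega)
    have h1 := (hz_div_O k hdim w (Q a)).1 ha
    obtain ⟨i, hi⟩ := exists_drop_list Q hQ n (w / O k hdim (Q a))
      (by rw [dg_div k hdim, dg_O k hdim]; omega) (by omega) (by omega)
    refine ⟨Fin.cons a i, ?_⟩
    have e : ∏ t : Fin (n + 1), O k hdim (Q ((Fin.cons a i : Fin (n + 1) → Fin N) t)) =
        O k hdim (Q a) * ∏ t, O k hdim (Q (i t)) := by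
      rw [Fin.prod_univ_succ]
      simp only [Fin.cons_zero, Fin.cons_succ]
    rw [e, div_mul_eq_div_div]
    exact hi

include hdim in
theorem euler_of_hz {v : Pc C} (hd : dg k v = Curv2.genus k C) (hh : hz k v = 1) :
    Curv2.euler k C (JacVarLib.out v) = 1 ∧ Module.finrank k (Coh.HH C (JacVarLib.out v) 1) = 0 := by
  haveI := CurveCohLib.isNoetherian_of_proper (k := k) (X := C)
  have h0 := CurveCohLib.Nonspecial.euler_structure k hdim (CurveNondeg.h0_structure (X := C) k)
  have hc := CurveDeg.isCoh_of_isInvertible (JacVarLib.isInvertible_out v)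
  have h := CurveRR.euler_eq_h0_sub_h1 k hdim.le hc.1
  have he : Curv2.euler k C (JacVarLib.out v) = 1 := by
    unfold JacVarLib.dg Curv2.deg at hd
    push_cast at hd
    omega
  refine ⟨he, ?_⟩
  unfold JacVarLib.hz at hh
  rw [he, hh] at h
  omega

end Drop

end Groth.Agent.PicRep
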