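import Groth.Agent.PicRep.Zero
import Groth.Agent.PicRep.DescRep
import Groth.Agent.AVFieldDual.DualBC
import Groth.Agent.PicRep.Points

/-!
# The degree zero functor and base change; the fppf sheaf property
-/

set_option autoImplicit false
set_option maxHeartbeats 1600000
set_option linter.style.haveILetI false
set_option linter.unusedSectionVars false
set_option backward.isDefEq.respectTransparency false
set_option backward.isDefEq.respectTransparency.types false

universe u

open CategoryTheory CategoryTheory.Limits AlgebraicGeometry TopologicalSpace Opposite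

noncomputable section

namespace Groth.Agent.PicRep

open Groth.Agent Groth.Agent.LineDesc.Rig
open Groth.Agent.JacVarLib (InvU Pc pullPc pullPc_val pullPc_comp ext_val out cl_out isInvertible_out)
open scoped Groth.Agent.H23.PicMul

attribute [local instance] GenusOneX.fibreOver GenusOneX.flat_of_family GenusOneX.lfp_of_family

variable {X S S' : Scheme.{u}} (f : X ⟶ S) [IsProper f] [SmoothOfRelativeDimension 1 f] [GeometricallyConnected f]
  (q : S' ⟶ S) (σ : S ⟶ X) (hσ : σ ≫ f = 𝟙 S)

/-- The base-changed family. -/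
abbrev bcf : pullback f q ⟶ S' := pullback.snd f q

instance : SmoothOfRelativeDimension 1 (bcf f q) :=
  haveI := smoothOfRelativeDimension_isStableUnderBaseChange 1
  MorphismProperty.pullback_snd (P := @SmoothOfRelativeDimension 1) f q inferInstance

/-- The base-changed section. -/
def bcσ : S' ⟶ pullback f q := pullback.lift (q ≫ σ) (𝟙 S') (by rw [Category.assoc, hσ, Category.comp_id, Category.id_comp])

theorem bcσ_fac : bcσ f q σ hσ ≫ bcf f q = 𝟙 S' := pullback.lift_snd _ _ _

/-- The identification of the two fibre products. -/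
abbrev eT (T : Over S') : PicF.XT (bcf f q) T ≅ PicF.XT f ((Over.map q).obj T) :=
  AgPol.bcXTIso q (Over.mk f) T

theorem eT_map {T T' : Over S'} (g : T' ⟶ T) :
    (eT f q T').inv ≫ PicF.XTmap (bcf f q) g = PicF.XTmap f ((Over.map q).map g) ≫ (eT f q T).inv :=
  AVField.bcXTIso_inv_map q (Over.mk f) g

theorem eT_proj (T : Over S') :
    (eT f q T).hom ≫ PicF.XTproj f ((Over.map q).obj T) = PicF.XTproj (bcf f q) T :=
  pullbackLeftPullbackSndIso_hom_snd f q T.hom

theorem secT_eT (T : Over S') :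
    PicF.secT (bcf f q) (bcσ f q σ hσ) (bcσ_fac f q σ hσ) T ≫ (eT f q T).hom =
      PicF.secT f σ hσ ((Over.map q).obj T) := by
  refine pullback.hom_ext ?_ ?_
  · simp [eT, AgPol.bcXTIso, PicF.secT, bcσ]
  · simp [eT, AgPol.bcXTIso, PicF.secT]

theorem pull_inv_hom (T : Over S') (v : Pc (PicF.XT f ((Over.map q).obj T))) :
    pullPc (eT f q T).inv (pullPc (eT f q T).hom v) = v := by
  rw [pullPc_comp, Iso.inv_hom_id, pullPc_id]

theorem pull_hom_inv (T : Over S') (v : Pc (PicF.XT (bcf f q) T)) :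
    pullPc (eT f q T).hom (pullPc (eT f q T).inv v) = v := by
  rw [pullPc_comp, Iso.hom_inv_id, pullPc_id]

theorem deg_eT (T : Over S') (v : Pc (PicF.XT f ((Over.map q).obj T))) (t : T.left) :
    DegData.deg (bcf f q) T (pullPc (eT f q T).hom v).1.val t = DegData.deg f ((Over.map q).obj T) v.1.val t := by
  have hsq : IsPullback (eT f q T).hom (PicF.XTproj (bcf f q) T) (PicF.XTproj f ((Over.map q).obj T)) (𝟙 _) :=
    IsPullback.of_horiz_isIso ⟨by rw [eT_proj, Category.comp_id]⟩
  have hcl : PicF.cl ((Scheme.Modules.pullback (eT f q T).hom).obj (out v)) = (pullPc (eT f q T).hom v).1.val := by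
    rw [pullPc_val, ← cl_out]; rfl
  have h1 : PerfAux.eulerChar (PicF.XTproj (bcf f q) T) (out (pullPc (eT f q T).hom v)) t =
      PerfAux.eulerChar (PicF.XTproj f ((Over.map q).obj T)) (out v) t := by
    rw [eulerChar_cl _ hcl]
    exact HilbFib.χ_baseChange hsq (ProjUPX.isQCoh_of_isInvertible (isInvertible_out v)) t
  have h2 : PerfAux.eulerChar (PicF.XTproj (bcf f q) T) (Coh.structureModule (PicF.XT (bcf f q) T)) t =
      PerfAux.eulerChar (PicF.XTproj f ((Over.map q).obj T))
        (Coh.structureModule (PicF.XT f ((Over.map q).obj T))) t := by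
    obtain ⟨e⟩ := PicClLib.nonempty_pullback_structureModule (eT f q T).hom
    exact (HilbFib.χ_congr _ e.symm t).trans
      (HilbFib.χ_baseChange hsq (ProjUPX.isQCoh_of_isInvertible InvX.isInvertible_structureModule) t)
  rw [deg_eq_sub, deg_eq_sub, h1]
  exact congrArg (_ - ·) h2

theorem pull_hom_mem {T : Over S'} {v : Pc (PicF.XT f ((Over.map q).obj T))}
    (hv : v ∈ RZ f σ hσ ((Over.map q).obj T)) :
    pullPc (eT f q T).hom v ∈ RZ (bcf f q) (bcσ f q σ hσ) (bcσ_fac f q σ hσ) T := by
  refine ⟨?_, mem_PZ.2 fun t => (deg_eT f q T v t).trans (mem_PZ.1 hv.2 t)⟩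
  refine mem_RP.2 ?_
  rw [pullPc_comp, secT_eT]
  exact mem_RP.1 hv.1

theorem pull_inv_mem {T : Over S'} {w : Pc (PicF.XT (bcf f q) T)}
    (hw : w ∈ RZ (bcf f q) (bcσ f q σ hσ) (bcσ_fac f q σ hσ) T) :
    pullPc (eT f q T).inv w ∈ RZ f σ hσ ((Over.map q).obj T) := by
  refine ⟨?_, mem_PZ.2 fun t => ?_⟩
  · refine mem_RP.2 ?_
    rw [← secT_eT, ← pullPc_comp, pull_hom_inv]
    exact mem_RP.1 hw.1
  · have h := deg_eT f q T (pullPc (eT f q T).inv w) t
    rw [pull_hom_inv] at h
    exact h.symm.trans (mem_PZ.1 hw.2 t)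

variable {f q σ hσ} {P : Over S'}
  (r : (funct0 (bcf f q) (bcσ f q σ hσ) (bcσ_fac f q σ hσ)).RepresentableBy P)

/-- The universal element read over `S`. -/
def eltS : (funct0 f σ hσ).obj (op ((Over.map q).obj P)) :=
  elt0 _ (pull_inv_mem f q σ hσ (val0_mem (r.homEquiv (𝟙 P))))

theorem val0_eltS_map {T : Over S'} (g : T ⟶ P) :
    val0 ((funct0 f σ hσ).map ((Over.map q).map g).op (eltS r)) =
      pullPc (eT f q T).inv (val0 (r.homEquiv g)) := by
  rw [val0_map, eltS, val0_elt0, pullPc_comp, ← eT_map, ← pullPc_comp, ← val0_map, ← r.homEquiv_eq g]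

theorem existsUnique_eltS (T : Over S') (x : (funct0 f σ hσ).obj (op ((Over.map q).obj T))) :
    ∃! g : T ⟶ P, (funct0 f σ hσ).map ((Over.map q).map g).op (eltS r) = x := by
  let y := elt0 _ (pull_hom_mem f q σ hσ (val0_mem x))
  refine ⟨r.homEquiv.symm y, val0_injective ?_, fun g hg => ?_⟩
  · rw [val0_eltS_map, Equiv.apply_symm_apply, val0_elt0, pull_inv_hom]
  · refine r.homEquiv.injective (val0_injective ?_)
    rw [Equiv.apply_symm_apply, val0_elt0, ← hg, val0_eltS_map, pull_hom_inv]

variable (ha : ∀ (Z : Scheme.{u}) (z : Z ⟶ S), Function.Bijective (pullback.snd f z).appTop)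

include ha in
/-- The sheaf property for a flat covering. -/
theorem existsUnique_descend [Flat q] [LocallyOfFinitePresentation q] [Surjective q] (T : Over S)
    (x : (funct0 f σ hσ).obj (op ((DescRep.B q).obj T)))
    (h : (funct0 f σ hσ).map (DescRep.π₁ q T).op x = (funct0 f σ hσ).map (DescRep.π₂ q T).op x) :
    ∃! y : (funct0 f σ hσ).obj (op T), (funct0 f σ hσ).map (DescRep.pr q T).op y = x := by
  let u := pullback.fst T.hom q
  let m : (DescRep.B q).obj T ⟶ U1 u := Over.homMk (𝟙 _) ((Category.id_comp _).trans pullback.condition)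
  let m' : U1 u ⟶ (DescRep.B q).obj T := Over.homMk (𝟙 _) ((Category.id_comp _).trans pullback.condition.symm)
  have hm : m ≫ m' = 𝟙 _ := Over.OverMorphism.ext (Category.comp_id _)
  have hm' : m' ≫ m = 𝟙 _ := Over.OverMorphism.ext (Category.comp_id _)
  have hpr : m ≫ AbDual.ovrHom T u = DescRep.pr q T := Over.OverMorphism.ext (Category.id_comp _)
  let l : U2 u ⟶ (DescRep.B (DescRep.q₂ q)).obj T := Over.homMk
    (pullback.lift (pullback.fst u u ≫ u)
      (pullback.lift (pullback.fst u u ≫ pullback.snd T.hom q) (pullback.snd u u ≫ pullback.snd T.hom q) (by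
        rw [Category.assoc, Category.assoc, ← pullback.condition, pullback.condition_assoc])) (by
      simp [DescRep.q₂, u, pullback.condition]))
    (by
      show pullback.lift _ _ _ ≫ (pullback.snd T.hom (DescRep.q₂ q) ≫ pullback.fst q q ≫ q) =
        pullback.fst u u ≫ u ≫ T.hom
      rw [pullback.lift_snd_assoc, pullback.lift_fst_assoc, Category.assoc]
      exact congrArg (pullback.fst u u ≫ ·) pullback.condition.symm)
  have hl₁ : l ≫ DescRep.π₁ q T = p1 u ≫ m' := Over.OverMorphism.ext (pullback.hom_ext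
    (by simp [l, DescRep.π₁, m', u]) (by simp [l, DescRep.π₁, m', u]))
  have hl₂ : l ≫ DescRep.π₂ q T = p2 u ≫ m' := Over.OverMorphism.ext (pullback.hom_ext
    (by simp [l, DescRep.π₂, m', u, pullback.condition]) (by simp [l, DescRep.π₂, m', u]))
  let V := pullPc (PicF.XTmap f m') (val0 x)
  have hV : V ∈ RP f σ hσ (U1 u) := pull_mem_RP m' (val0_mem x).1
  have hglue : PicF.pullCl (PicF.XTmap f (p1 u)) (toRig ⟨V, hV⟩).1 =
      PicF.pullCl (PicF.XTmap f (p2 u)) (toRig ⟨V, hV⟩).1 := by
    have e := congrArg (fun z => pullPc (PicF.XTmap f l) (val0 z)) h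
    simp only [val0_map, pullPc_comp, XTmap_comp, hl₁, hl₂] at e
    rw [← XTmap_comp, ← XTmap_comp, ← pullPc_comp, ← pullPc_comp] at e
    show PicF.pullCl _ V.1.val = PicF.pullCl _ V.1.val
    rw [← pullPc_val, ← pullPc_val]
    exact congrArg (fun z : Pc _ => z.1.val) e
  obtain ⟨c, hc⟩ := exists_rig ha u (toRig ⟨V, hV⟩) hglue
  have hcV : pullPc (PicF.XTmap f (AbDual.ovrHom T u)) (toPc c.1 c.2.1) = V :=
    ext_val (by rw [pullPc_val, toPc_val]; exact hc)
  have hVx : pullPc (PicF.XTmap f m) V = val0 x := by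
    rw [pullPc_comp, XTmap_comp, hm, XTmap_id, pullPc_id]
  have hcx : pullPc (PicF.XTmap f (DescRep.pr q T)) (toPc c.1 c.2.1) = val0 x := by
    rw [← hpr, ← XTmap_comp, ← pullPc_comp, hcV, hVx]
  have hz : toPc c.1 c.2.1 ∈ PZ f T := mem_PZ_of_cover fun t => by
    obtain ⟨t', ht'⟩ := u.surjective t
    exact ⟨_, DescRep.pr q T, t', ht', by rw [hcx]; exact (val0_mem x).2⟩
  refine ⟨elt0 _ ⟨toPc_mem_RP c, hz⟩, val0_injective (by rw [val0_map, val0_elt0, hcx]), fun y hy => val0_injective ?_⟩
  rw [val0_elt0]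
  have key := congrArg val0 hy
  rw [val0_map] at key
  refine ext_val ?_
  rw [toPc_val]
  have h2 : pullPc (PicF.XTmap f (AbDual.ovrHom T u)) (val0 y) = V := by
    show _ = pullPc (PicF.XTmap f m') (val0 x)
    rw [← key, pullPc_comp (PicF.XTmap f m'), XTmap_comp, ← hpr, ← Category.assoc, hm', Category.id_comp]
  exact congrArg Subtype.val (rig_unique ha u (toRig ⟨val0 y, (val0_mem y).1⟩) c
    (((pullPc_val _ _).symm.trans (congrArg (fun z : Pc _ => z.1.val) h2)).trans hc.symm))

end Groth.Agent.PicRep
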