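import Groth.Agent.PicRep.DivClass
import Groth.Agent.S6487
import Groth.Agent.DimOne.Integral
import Groth.Agent.CurveBC.Geometry
import Groth.Agent.CurveAlgEqLib.Family
import Groth.Agent.GrpSchLib.AntiAffine
import Groth.Agent.CurveCohLib.Nonspecial

/-!
# Representability of the rigidified Picard functor of a curve over a separably closed field
-/

set_option autoImplicit false
set_option maxHeartbeats 1600000
set_option linter.style.haveILetI false
set_option linter.unusedSectionVars false
set_option backward.isDefEq.respectTransparency false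
set_option backward.isDefEq.respectTransparency.types false

universe u

open CategoryTheory CategoryTheory.Limits AlgebraicGeometry TopologicalSpace Opposite

noncomputable section

namespace Groth.Agent.PicRep

open Groth.Agent
open Groth.Agent.JacVarLib (InvU Pc pullPc pullPc_val pullPc_comp ext_val out cl_out isInvertible_out out_mul)
open scoped Groth.Agent.H23.PicMul

theorem smoothOfRelativeDimension_one (k : Type u) [Field k] (X : Scheme.{u}) [X.Over (Spec (CommRingCat.of k))]
    [IsProper (X ↘ Spec (CommRingCat.of k))] [Smooth (X ↘ Spec (CommRingCat.of k))] [IsIntegral X]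
    (hdim : topologicalKrullDim X = 1) : SmoothOfRelativeDimension 1 (X ↘ Spec (CommRingCat.of k)) := by
  have h0 : topologicalKrullDim ↥(Spec (CommRingCat.of k)) = ((0 : ℕ) : WithBot ℕ∞) := by
    show topologicalKrullDim (PrimeSpectrum k) = _
    rw [PrimeSpectrum.topologicalKrullDim_eq_ringKrullDim]
    exact ringKrullDim_eq_zero_of_field k
  exact (SmoothCrit.smoothOfRelativeDimension_iff (X ↘ Spec (CommRingCat.of k)) (𝟙 (Spec (CommRingCat.of k))) (X ↘ Spec (CommRingCat.of k)) (Category.comp_id _) 1 0 h0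
    (by rw [hdim]; rfl)).2 inferInstance

instance small_Pc (Y : Scheme.{u}) : Small.{u} (Pc Y) := by
  haveI := small_invertibleCl Y
  exact small_of_injective (f := fun v : Pc Y => (⟨v.1.val, v.2⟩ : {c : PicF.Cl Y // PicF.IsInvertibleCl c}))
    fun v w h => ext_val (congrArg Subtype.val h)

theorem exists_affine_points (k : Type u) [Field k] (X : Scheme.{u}) [X.Over (Spec (CommRingCat.of k))]
    [IsProper (X ↘ Spec (CommRingCat.of k))] (hdim : topologicalKrullDim X = 1) {d : ℕ} (x : Fin d → X) :
    ∃ U : X.Opens, IsAffineOpen U ∧ ∀ j, x j ∈ U := by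
  classical
  haveI := CurveCohLib.isNoetherian_of_proper (k := k) (X := X)
  haveI : X.IsSeparated := ⟨by
    rw [terminal.hom_ext (terminal.from X) ((X ↘ Spec (CommRingCat.of k)) ≫ terminal.from _)]; infer_instance⟩
  obtain ⟨A, hA, h⟩ := DimOne.exists_affine_containing hdim.le (Finset.univ.image x)
  exact ⟨A, hA, fun j => h _ (Finset.mem_image.2 ⟨j, Finset.mem_univ _, rfl⟩)⟩

variable {k : Type u} [Field k] {X : Scheme.{u}} [X.Over (Spec (CommRingCat.of k))]
  [IsProper (X ↘ Spec (CommRingCat.of k))]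
  [SmoothOfRelativeDimension 1 (X ↘ Spec (CommRingCat.of k))]
  [GeometricallyConnected (X ↘ Spec (CommRingCat.of k))]

attribute [local instance] GenusOneX.fibreOver GenusOneX.flat_of_family GenusOneX.lfp_of_family

/-- A residue field of a test scheme as an extension of the ground field. -/
def resAlg {T : Over (Spec (CommRingCat.of k))} (t : T.left) : Algebra k (T.left.residueField t) :=
  (Spec.preimage (T.left.fromSpecResidueField t ≫ T.hom)).hom.toAlgebra

theorem isPullback_fibre {T : Over (Spec (CommRingCat.of k))} (t : T.left) :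
    letI := resAlg t
    IsPullback ((PicF.XTproj (X ↘ Spec (CommRingCat.of k)) T).fiberι t ≫ pullback.fst (X ↘ Spec (CommRingCat.of k)) T.hom)
      ((PicF.XTproj (X ↘ Spec (CommRingCat.of k)) T).fiber t ↘ Spec (CommRingCat.of (T.left.residueField t))) (X ↘ Spec (CommRingCat.of k))
      (Spec.map (CommRingCat.ofHom (algebraMap k (T.left.residueField t)))) := by
  letI := resAlg t
  rw [show Spec.map (CommRingCat.ofHom (algebraMap k (T.left.residueField t))) = T.left.fromSpecResidueField t ≫ T.hom
    from Spec.map_preimage _]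
  exact (IsPullback.of_hasPullback (PicF.XTproj (X ↘ Spec (CommRingCat.of k)) T) (T.left.fromSpecResidueField t)).paste_horiz
    (IsPullback.of_hasPullback (X ↘ Spec (CommRingCat.of k)) T.hom)

variable (k X) in
/-- The Euler characteristic of the structure sheaf on the fibres. -/
theorem euler_fibre (hdim : topologicalKrullDim X = 1) (T : Over (Spec (CommRingCat.of k))) (t : T.left) :
    Curv2.euler (T.left.residueField t) ((PicF.XTproj (X ↘ Spec (CommRingCat.of k)) T).fiber t)
      (Coh.structureModule ((PicF.XTproj (X ↘ Spec (CommRingCat.of k)) T).fiber t)) = 1 - (Curv2.genus k X : ℤ) := by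
  letI := resAlg t
  haveI : Smooth (X ↘ Spec (CommRingCat.of k)) := SmoothOfRelativeDimension.smooth (n := 1) _
  have hO := CurveBC.finrank_h0_of_geometricallyConnected k X
  haveI := CurveBC.isIntegral_of_h0 k X hO
  haveI : QuasiSeparatedSpace X := quasiSeparatedSpace_of_quasiSeparated (X ↘ Spec (CommRingCat.of k))
  haveI := QuasiCompact.compactSpace_of_compactSpace (X ↘ Spec (CommRingCat.of k))
  haveI := GenusOneX.fibre_isProper (PicF.XTproj (X ↘ Spec (CommRingCat.of k)) T) t
  haveI := GenusOneX.fibre_isIntegral (PicF.XTproj (X ↘ Spec (CommRingCat.of k)) T) t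
  haveI := GenusOneX.fibre_smooth (PicF.XTproj (X ↘ Spec (CommRingCat.of k)) T) t
  haveI : Smooth ((PicF.XTproj (X ↘ Spec (CommRingCat.of k)) T).fiber t ↘ Spec (CommRingCat.of (T.left.residueField t))) :=
    SmoothOfRelativeDimension.smooth (n := 1) _
  have hpb := isPullback_fibre (X := X) t
  rw [CurveCohLib.Nonspecial.euler_structure (T.left.residueField t) (GenusOneX.fibre_dim (PicF.XTproj (X ↘ Spec (CommRingCat.of k)) T) t)
    ((CurveBC.finrank_hh_unit k _ _ hpb 0).trans hO), CurveBC.genus_eq k _ _ hpb]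

/-- Every class becomes good on a given fibre after twisting by a class on the curve. -/
theorem exists_twist_good [IsSepClosed k] (hX : Curve.IsSmoothProperCurve k X (X ↘ Spec (CommRingCat.of k))) {T : Over (Spec (CommRingCat.of k))}
    (v : Pc (PicF.XT (X ↘ Spec (CommRingCat.of k)) T)) (t : T.left) :
    ∃ c : Pc X, Good (PicF.XTproj (X ↘ Spec (CommRingCat.of k)) T) (v * pullPc (pullback.fst (X ↘ Spec (CommRingCat.of k)) T.hom) c) t := by
  letI := resAlg t
  let q := PicF.XTproj (X ↘ Spec (CommRingCat.of k)) T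
  haveI := GenusOneX.fibre_isProper q t
  haveI := GenusOneX.fibre_isIntegral q t
  have hpb := isPullback_fibre (X := X) t
  have hL := PicClLib.isInvertible_pullback (q.fiberι t) (isInvertible_out v)
  obtain ⟨L₀, hL₀, h0, h1⟩ := S6487.result k X hX (T.left.residueField t) (q.fiber t) _ hpb _ hL
  refine ⟨toPc (PicF.cl L₀) ⟨L₀, rfl, hL₀⟩, ?_⟩
  let c := toPc (PicF.cl L₀) ⟨L₀, rfl, hL₀⟩
  have hcl : PicF.cl ((Scheme.Modules.pullback (q.fiberι t)).obj (out (v * pullPc (pullback.fst (X ↘ Spec (CommRingCat.of k)) T.hom) c))) =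
      PicF.cl (CohB1.tensorMod ((Scheme.Modules.pullback (q.fiberι t)).obj (out v))
        ((Scheme.Modules.pullback (q.fiberι t ≫ pullback.fst (X ↘ Spec (CommRingCat.of k)) T.hom)).obj L₀)) := by
    rw [H23.PicMul.cl_tensor]
    show PicF.pullCl (q.fiberι t) (PicF.cl (out (v * pullPc (pullback.fst (X ↘ Spec (CommRingCat.of k)) T.hom) c))) =
      PicF.pullCl (q.fiberι t) (PicF.cl (out v)) * PicF.pullCl (q.fiberι t ≫ pullback.fst (X ↘ Spec (CommRingCat.of k)) T.hom) (PicF.cl L₀)
    rw [cl_out, cl_out, ← pullPc_val, ← pullPc_val, map_mul, pullPc_comp,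
      ← toPc_val (PicF.cl L₀) ⟨L₀, rfl, hL₀⟩, ← pullPc_val, Subgroup.coe_mul, Units.val_mul]
  obtain ⟨e⟩ := H23.PicMul.cl_eq_iff.1 hcl
  have hM := InvX.isInvertible_tensorMod hL (PicClLib.isInvertible_pullback (q.fiberι t ≫ pullback.fst (X ↘ Spec (CommRingCat.of k)) T.hom) hL₀)
  refine ⟨?_, ?_⟩
  · show Curv2.euler (T.left.residueField t) (q.fiber t) _ = 1
    rw [CurveCohLib.euler_congr (k := T.left.residueField t) e,
      CurveRR.euler_eq_h0_sub_h1 (T.left.residueField t) (GenusOneX.fibre_dim q t).le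
        (ProjUPX.isQCoh_of_isInvertible hM), h0, Module.finrank_zero_of_subsingleton]
    rfl
  · refine ((CurveCohLib.hhEquiv (k := T.left.residueField t) e 1).finrank_eq).trans ?_
    exact Module.finrank_zero_of_subsingleton

variable (k X) in
theorem bijective_appTop_snd' (Z : Scheme.{u}) (z : Z ⟶ Spec (CommRingCat.of k)) :
    Function.Bijective (pullback.snd (X ↘ Spec (CommRingCat.of k)) z).appTop :=
  haveI : Smooth (X ↘ Spec (CommRingCat.of k)) := SmoothOfRelativeDimension.smooth (n := 1) _
  GrpSchLib.AntiAffine.bijective_appTop_snd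
    (CurveBC.bijective_appTop k X (CurveBC.finrank_h0_of_geometricallyConnected k X)) z

variable [IsSepClosed k] {σ : Spec (CommRingCat.of k) ⟶ X} {hσ : σ ≫ (X ↘ Spec (CommRingCat.of k)) = 𝟙 _}

theorem rigRepresentable (hX : Curve.IsSmoothProperCurve k X (X ↘ Spec (CommRingCat.of k))) : PicF.RigRepresentable (X ↘ Spec (CommRingCat.of k)) σ hσ := by
  obtain ⟨-, -, -, hdim⟩ := id hX
  obtain ⟨H, ξ, hH⟩ := HilbDLib.representable (f := (X ↘ Spec (CommRingCat.of k))) (d := Curv2.genus k X)
    fun s x _ => exists_affine_points k X hdim x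
  let U := divPc ξ
  let H₀ : H.left.Opens := goodLocus (PicF.XTproj (X ↘ Spec (CommRingCat.of k)) H) U
  let Z : Over (Spec (CommRingCat.of k)) := Over.mk (H₀.ι ≫ H.hom)
  let j : Z ⟶ H := Over.homMk H₀.ι rfl
  let cT : ∀ (T : Over (Spec (CommRingCat.of k))), Pc X → Pc (PicF.XT (X ↘ Spec (CommRingCat.of k)) T) :=
    fun T c => pullPc (pullback.fst (X ↘ Spec (CommRingCat.of k)) T.hom) c
  have hcT : ∀ {T T' : Over (Spec (CommRingCat.of k))} (g : T' ⟶ T) (c : Pc X),
      pullPc (PicF.XTmap (X ↘ Spec (CommRingCat.of k)) g) (cT T c) = cT T' c := fun g c => by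
    show pullPc _ (pullPc _ c) = pullPc _ c
    rw [pullPc_comp, LineDesc.Rig.XTmap_fst]
  let ι := Shrink.{u} (Pc X)
  let cls : ι → Pc X := fun i => (equivShrink (Pc X)).symm i
  let e : ι → (funct (X ↘ Spec (CommRingCat.of k)) σ hσ).obj (op Z) := fun i =>
    elt (rho (X ↘ Spec (CommRingCat.of k)) σ hσ (pullPc (PicF.XTmap (X ↘ Spec (CommRingCat.of k)) j) U * (cT Z (cls i))⁻¹)) (rho_mem _)
  have hval : ∀ (i : ι) {T : Over (Spec (CommRingCat.of k))} (q : T ⟶ Z),
      val ((funct (X ↘ Spec (CommRingCat.of k)) σ hσ).map q.op (e i)) =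
        rho (X ↘ Spec (CommRingCat.of k)) σ hσ (pullPc (PicF.XTmap (X ↘ Spec (CommRingCat.of k)) (q ≫ j)) U * (cT T (cls i))⁻¹) := fun i T q => by
    rw [val_map, val_elt, pull_rho, map_mul, map_inv, hcT, pullPc_comp, LineDesc.Rig.XTmap_comp]
  have hgood : ∀ {T : Over (Spec (CommRingCat.of k))} (q : T ⟶ Z) (t : T.left),
      Good (PicF.XTproj (X ↘ Spec (CommRingCat.of k)) T) (pullPc (PicF.XTmap (X ↘ Spec (CommRingCat.of k)) (q ≫ j)) U) t := fun q t => by
    rw [good_pull (q ≫ j) U t]
    exact (q.left t).2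
  obtain ⟨Q, ⟨r⟩⟩ := OverRep.exists_representableBy (F := funct (X ↘ Spec (CommRingCat.of k)) σ hσ)
    (isSheaf_funct (bijective_appTop_snd' k X)) (fun _ : ι => Z) e
    (fun i T x => goodLocus (PicF.XTproj (X ↘ Spec (CommRingCat.of k)) T) (val x * cT T (cls i)))
    (fun i T x T' t => by
      have hw : pullPc (PicF.XTmap (X ↘ Spec (CommRingCat.of k)) t) (val x * cT T (cls i)) =
          val ((funct (X ↘ Spec (CommRingCat.of k)) σ hσ).map t.op x) * cT T' (cls i) := by rw [map_mul, hcT, val_map]
      constructor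
      · intro ht
        have hg : ∀ t', Good (PicF.XTproj (X ↘ Spec (CommRingCat.of k)) T') (val ((funct (X ↘ Spec (CommRingCat.of k)) σ hσ).map t.op x) * cT T' (cls i)) t' := fun t' => by
          rw [← hw, good_pull t]
          exact ht ⟨t', rfl⟩
        obtain ⟨I, m, hI⟩ := exists_div (γ₀ := Curv2.genus k X) (euler_fibre k X hdim) _ hg
        obtain ⟨q₀, hq₀, -⟩ := hH T' I
        have hU : pullPc (PicF.XTmap (X ↘ Spec (CommRingCat.of k)) q₀) U = divPc I := by
          refine (pull_divPc q₀ ξ).trans (congrArg divPc (Subtype.ext ?_))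
          exact hq₀
        have hin : ∀ t', q₀.left t' ∈ H₀ := fun t' => by
          show Good _ _ _
          rw [← good_pull q₀ U t', hU, hI]
          exact (good_mul_base _ _ m t').2 (hg t')
        let q : T' ⟶ Z := Over.homMk (IsOpenImmersion.lift H₀.ι q₀.left (by
            rintro _ ⟨t', rfl⟩
            exact ⟨⟨_, hin t'⟩, rfl⟩)) (by
          show IsOpenImmersion.lift _ _ _ ≫ H₀.ι ≫ H.hom = T'.hom
          rw [IsOpenImmersion.lift_fac_assoc]
          exact Over.w q₀)
        have hqj : q ≫ j = q₀ := Over.OverMorphism.ext (IsOpenImmersion.lift_fac _ _ _)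
        refine ⟨q, val_injective ?_⟩
        rw [hval, hqj, hU, hI, mul_right_comm, mul_inv_cancel_right, rho_mul_base, rho_eq_self (val_mem _)]
      · rintro ⟨q, hq⟩ _ ⟨t', rfl⟩
        show Good _ _ _
        rw [← good_pull t, hw]
        have h1 := (congrArg val hq).trans (rho_eq_self (val_mem ((funct (X ↘ Spec (CommRingCat.of k)) σ hσ).map t.op x))).symm
        rw [hval] at h1
        obtain ⟨m, hm⟩ := rho_eq_iff.1 h1
        have h2 : pullPc (PicF.XTmap (X ↘ Spec (CommRingCat.of k)) (q ≫ j)) U =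
            val ((funct (X ↘ Spec (CommRingCat.of k)) σ hσ).map t.op x) * cT T' (cls i) * pullPc (PicF.XTproj (X ↘ Spec (CommRingCat.of k)) T') m := by
          rw [mul_right_comm, ← hm, inv_mul_cancel_right]
        exact (good_mul_base _ _ m t').1 (h2 ▸ hgood q t'))
    (fun i T q q' hq => by
      have h1 := congrArg val hq
      rw [hval, hval] at h1
      obtain ⟨m, hm⟩ := rho_eq_iff.1 h1.symm
      have h2 : pullPc (PicF.XTmap (X ↘ Spec (CommRingCat.of k)) (q' ≫ j)) U =
          pullPc (PicF.XTmap (X ↘ Spec (CommRingCat.of k)) (q ≫ j)) U * pullPc (PicF.XTproj (X ↘ Spec (CommRingCat.of k)) T) m := by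
        rw [mul_right_comm] at hm
        exact mul_right_cancel hm
      rw [pull_divPc, pull_divPc] at h2
      have h3 := div_unique (d := Curv2.genus k X) _ _ (fun t => by rw [← pull_divPc]; exact hgood q t) h2
      have h4 : q ≫ j = q' ≫ j := by
        obtain ⟨g, -, hg⟩ := hH T ⟨_, HilbDLib.isFinLocFreeOfDeg_pull (X ↘ Spec (CommRingCat.of k)) (q ≫ j) ξ.1 ξ.2⟩
        exact (hg _ rfl).trans (hg _ (congrArg Subtype.val h3).symm).symm
      refine Over.OverMorphism.ext ?_
      haveI : Mono H₀.ι := inferInstance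
      exact (cancel_mono H₀.ι).1 (congrArg CommaMorphism.left h4))
    (fun T x p => by
      obtain ⟨c, hc⟩ := exists_twist_good hX (val x) p
      refine ⟨equivShrink (Pc X) c, ?_⟩
      show Good _ (val x * cT T ((equivShrink (Pc X)).symm (equivShrink (Pc X) c))) p
      rw [Equiv.symm_apply_apply]
      exact hc)
  let η : RP (X ↘ Spec (CommRingCat.of k)) σ hσ Q := ⟨val (r.homEquiv (𝟙 Q)), val_mem _⟩
  refine ⟨Q, toRig η, fun T c => ?_⟩
  let y : (funct (X ↘ Spec (CommRingCat.of k)) σ hσ).obj (op T) := elt (toPc c.1 c.2.1) (toPc_mem_RP c)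
  have key : ∀ g : T ⟶ Q, PicF.pullCl (PicF.XTmap (X ↘ Spec (CommRingCat.of k)) g) (toRig η).1 = (val (r.homEquiv g)).1.val := fun g => by
    rw [r.homEquiv_eq g, val_map, pullPc_val]
    rfl
  have hy : (val y).1.val = c.1 := by rw [val_elt, toPc_val]
  refine ⟨r.homEquiv.symm y, ?_, fun g hg => ?_⟩
  · show PicF.pullCl _ _ = _
    rw [key, Equiv.apply_symm_apply, hy]
  · refine r.homEquiv.injective (val_injective (ext_val ?_))
    rw [Equiv.apply_symm_apply, ← key, hy]
    exact hg

end Groth.Agent.PicRep
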