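import Groth.Agent.PicRep.Points
import Groth.Agent.PicRep.Rep

/-!
# Representability of the degree zero part over a field with enough rational points
-/

set_option autoImplicit false
set_option maxHeartbeats 1600000
set_option linter.style.haveILetI false
set_option linter.unusedSectionVars false
set_option backward.isDefEq.respectTransparency false
set_option backward.isDefEq.respectTransparency.types false

universe u

open CategoryTheory CategoryTheory.Limits AlgebraicGeometry TopologicalSpace Opposite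

noncomputable section

namespace Groth.Agent.PicRep

open Groth.Agent
open Groth.Agent.JacVarLib (InvU Pc pullPc pullPc_val pullPc_comp ext_val out cl_out isInvertible_out Pt dg hz)
open scoped Groth.Agent.H23.PicMul

attribute [local instance] Jacobian.curveOver GenusOneX.fibreOver GenusOneX.flat_of_family GenusOneX.lfp_of_family

variable {k : Type u} [Field k] {X : Scheme.{u}} [X.Over (Spec (CommRingCat.of k))]
  [IsProper (X ↘ Spec (CommRingCat.of k))]
  [SmoothOfRelativeDimension 1 (X ↘ Spec (CommRingCat.of k))]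
  [GeometricallyConnected (X ↘ Spec (CommRingCat.of k))]

theorem genus_geom {Ω : Type u} [Field Ω] [IsAlgClosed Ω] (τ : Spec (CommRingCat.of Ω) ⟶ Spec (CommRingCat.of k)) :
    Curv2.genus Ω (PicF.XT (X ↘ Spec (CommRingCat.of k)) (Over.mk τ)) = Curv2.genus k X := by
  letI : Algebra k Ω := (Spec.preimage τ).hom.toAlgebra
  have hpb : IsPullback (pullback.fst (X ↘ Spec (CommRingCat.of k)) τ)
      (PicF.XT (X ↘ Spec (CommRingCat.of k)) (Over.mk τ) ↘ Spec (CommRingCat.of Ω))
      (X ↘ Spec (CommRingCat.of k)) (Spec.map (CommRingCat.ofHom (algebraMap k Ω))) := by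
    rw [show Spec.map (CommRingCat.ofHom (algebraMap k Ω)) = τ from Spec.map_preimage _]
    exact IsPullback.of_hasPullback _ _
  haveI : Smooth (X ↘ Spec (CommRingCat.of k)) := SmoothOfRelativeDimension.smooth (n := 1) _
  haveI : QuasiSeparatedSpace X := quasiSeparatedSpace_of_quasiSeparated (X ↘ Spec (CommRingCat.of k))
  haveI := QuasiCompact.compactSpace_of_compactSpace (X ↘ Spec (CommRingCat.of k))
  exact CurveBC.genus_eq k Ω (pullback.fst (X ↘ Spec (CommRingCat.of k)) τ) hpb

/-- Every class of degree zero becomes good after twisting by a class on the curve. -/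
theorem exists_twist_good0 (hdim : topologicalKrullDim X = 1)
    (σ : Spec (CommRingCat.of k) ⟶ X) (hσ : σ ≫ X ↘ Spec (CommRingCat.of k) = 𝟙 _)
    {N : ℕ} (hN : 2 * Curv2.genus k X < N) (P : Fin N → (Spec (CommRingCat.of k) ⟶ X))
    (hP : ∀ i, P i ≫ X ↘ Spec (CommRingCat.of k) = 𝟙 _) (hPi : Function.Injective P)
    {T : Over (Spec (CommRingCat.of k))} (v : Pc (PicF.XT (X ↘ Spec (CommRingCat.of k)) T))
    (hv : v ∈ PZ (X ↘ Spec (CommRingCat.of k)) T) (t : T.left) :
    ∃ c : Pc X, Good (PicF.XTproj (X ↘ Spec (CommRingCat.of k)) T)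
      (v * pullPc (pullback.fst (X ↘ Spec (CommRingCat.of k)) T.hom) c) t := by
  classical
  obtain ⟨Ω, _, _, τ, g, rfl⟩ := exists_geom (S := Spec (CommRingCat.of k)) t
  let C := PicF.XT (X ↘ Spec (CommRingCat.of k)) (Over.mk τ)
  let fst : C ⟶ X := pullback.fst (X ↘ Spec (CommRingCat.of k)) τ
  letI : Algebra k Ω := (Spec.preimage τ).hom.toAlgebra
  have hpb : IsPullback fst (C ↘ Spec (CommRingCat.of Ω))
      (X ↘ Spec (CommRingCat.of k)) (Spec.map (CommRingCat.ofHom (algebraMap k Ω))) := by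
    rw [show Spec.map (CommRingCat.ofHom (algebraMap k Ω)) = τ from Spec.map_preimage _]
    exact IsPullback.of_hasPullback _ _
  haveI : Smooth (X ↘ Spec (CommRingCat.of k)) := SmoothOfRelativeDimension.smooth (n := 1) _
  haveI := CurveBC.isIntegral_of_h0 k X (CurveBC.finrank_h0_of_geometricallyConnected k X)
  have hdimC := Jacobian.curve_dim (X ↘ Spec (CommRingCat.of k)) τ
  have hgen := genus_geom (X := X) τ
  -- rational points, their classes and their points on the geometric curve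
  let cl1 : ∀ p : Spec (CommRingCat.of k) ⟶ X, p ≫ X ↘ Spec (CommRingCat.of k) = 𝟙 _ → Pc X :=
    fun p hp => (toPc (PicF.cl (ClSub.idealMod p.ker)) ⟨_, rfl, JacSepPts.isInvertible_ker_section k hdim hp⟩)⁻¹
  have hpt : ∀ (p : Spec (CommRingCat.of k) ⟶ X) (hp : p ≫ X ↘ Spec (CommRingCat.of k) = 𝟙 _),
      ∃ q : Pt C, fst q.1 = p (IsLocalRing.closedPoint k) ∧ pullPc fst (cl1 p hp) = JacVarLib.O Ω hdimC q := by
    intro p hp
    obtain ⟨q, hq, hgq, -, ⟨e⟩⟩ := JacSepPts.exists_point_over k hpb hdim hdimC hp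
    refine ⟨⟨q, hq⟩, hgq, ?_⟩
    rw [map_inv, JacVarLib.O]
    refine congrArg (·⁻¹) (ext_val ?_)
    rw [pullPc_val, toPc_val, JacVarLib.mk_val]
    exact H23.PicMul.cl_eq_iff.2 ⟨e⟩
  obtain ⟨q₀, -, hq₀⟩ := hpt σ hσ
  choose Q hQ hQc using fun i => hpt (P i) (hP i)
  have hQi : Function.Injective Q := fun i j h => hPi (by
    have h1 : P i (IsLocalRing.closedPoint k) = P j (IsLocalRing.closedPoint k) := by rw [← hQ i, ← hQ j, h]
    have hker : (P i).ker = (P j).ker := by
      rw [(CurveEmbed.section_point k (P i) (hP i)).2.1, (CurveEmbed.section_point k (P j) (hP j)).2.1]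
      congr 1
    haveI : IsClosedImmersion (P j) := by
      haveI : IsClosedImmersion (P j ≫ X ↘ Spec (CommRingCat.of k)) := by rw [hP j]; infer_instance
      exact IsClosedImmersion.of_comp (P j) (X ↘ Spec (CommRingCat.of k))
    have h2 := IsClosedImmersion.lift_fac (P j) (P i) hker.ge
    have h3 := congrArg (· ≫ X ↘ Spec (CommRingCat.of k)) h2
    simp only [Category.assoc, hP, Category.comp_id] at h3
    rw [← h2, h3, Category.id_comp])
  -- degree and sections
  let γ := Curv2.genus k X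
  let v' := pullPc (PicF.XTmap (X ↘ Spec (CommRingCat.of k)) g) v
  have hv0 : dg Ω v' = 0 := by
    rw [← deg_eq_dg (X ↘ Spec (CommRingCat.of k)) τ v' (IsLocalRing.closedPoint Ω)]
    exact mem_PZ.1 (pull_mem_PZ g hv) _
  let w := v' * pullPc fst (cl1 σ hσ ^ (2 * γ))
  have hw : dg Ω w = (γ + γ : ℕ) := by
    rw [JacVarLib.dg_mul Ω hdimC, map_pow, hq₀, JacVarLib.dg_pow Ω hdimC, JacVarLib.dg_O Ω hdimC, hv0]
    push_cast
    ring
  have hh : hz Ω w = γ + 1 := by
    have h1 : Subsingleton (Coh.HH C (out w) 1) :=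
      CurveDuality.subsingleton_HH_one_of_deg_ge Ω hdimC (isInvertible_out w) (by
        have h0 := CurveCohLib.Nonspecial.euler_structure Ω hdimC (CurveNondeg.h0_structure (X := C) Ω)
        have hd : Curv2.deg Ω C (out w) 1 = (γ + γ : ℕ) := hw
        rw [hd, h0, hgen]
        push_cast
        omega)
    haveI := CurveCohLib.isNoetherian_of_proper (k := Ω) (X := C)
    have h2 := CurveRR.euler_eq_h0_sub_h1 Ω hdimC.le (CurveDeg.isCoh_of_isInvertible (isInvertible_out w)).1
    rw [euler_out (X ↘ Spec (CommRingCat.of k)) τ w, hw, hgen,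
      Module.finrank_zero_of_subsingleton (M := Coh.HH C (out w) 1)] at h2
    unfold JacVarLib.hz
    push_cast at h2
    omega
  obtain ⟨i, hd', hh'⟩ := exists_drop_list Ω hdimC Q hQi γ w (by rw [hw, hgen]; push_cast; rfl) hh
    (by rw [hgen]; omega)
  refine ⟨cl1 σ hσ ^ (2 * γ) / ∏ s, cl1 (P (i s)) (hP _), ?_⟩
  rw [← good_pull g, map_mul, pullPc_comp, LineDesc.Rig.XTmap_fst]
  show Good (PicF.XTproj (X ↘ Spec (CommRingCat.of k)) (Over.mk τ))
    (v' * pullPc fst (cl1 σ hσ ^ (2 * γ) / ∏ s, cl1 (P (i s)) (hP _))) (IsLocalRing.closedPoint Ω)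
  have e : v' * pullPc fst (cl1 σ hσ ^ (2 * γ) / ∏ s, cl1 (P (i s)) (hP _)) =
      w / ∏ s, JacVarLib.O Ω hdimC (Q (i s)) := by
    rw [map_div, map_prod, ← mul_div_assoc]
    exact congrArg _ (Finset.prod_congr rfl fun s _ => hQc (i s))
  rw [e]
  exact (good_iff (X ↘ Spec (CommRingCat.of k)) τ _ _).2 (euler_of_hz Ω hdimC hd' hh')

variable {σ : Spec (CommRingCat.of k) ⟶ X} {hσ : σ ≫ X ↘ Spec (CommRingCat.of k) = 𝟙 _}

/-- The degree of a good class is the genus. -/
theorem deg_of_good {T : Over (Spec (CommRingCat.of k))} {v : Pc (PicF.XT (X ↘ Spec (CommRingCat.of k)) T)}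
    {t : T.left} (h : Good (PicF.XTproj (X ↘ Spec (CommRingCat.of k)) T) v t) :
    DegData.deg (X ↘ Spec (CommRingCat.of k)) T v.1.val t = Curv2.genus k X := by
  obtain ⟨Ω, _, _, τ, g, rfl⟩ := exists_geom (S := Spec (CommRingCat.of k)) t
  rw [← deg_pullPc g, deg_eq_dg (X ↘ Spec (CommRingCat.of k)) τ,
    dg_of_good (X ↘ Spec (CommRingCat.of k)) τ ((good_pull g v _).2 h), genus_geom τ]

theorem deg_const (c : Pc X) : ∃ d : ℤ, ∀ (T : Over (Spec (CommRingCat.of k))) (t : T.left),
    DegData.deg (X ↘ Spec (CommRingCat.of k)) T (pullPc (pullback.fst (X ↘ Spec (CommRingCat.of k)) T.hom) c).1.val t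
      = d := by
  let B : Over (Spec (CommRingCat.of k)) := Over.mk (𝟙 _)
  refine ⟨DegData.deg (X ↘ Spec (CommRingCat.of k)) B
    (pullPc (pullback.fst (X ↘ Spec (CommRingCat.of k)) B.hom) c).1.val (IsLocalRing.closedPoint k), fun T t => ?_⟩
  let g : T ⟶ B := Over.homMk T.hom (Category.comp_id _)
  haveI : Subsingleton B.left := inferInstanceAs (Subsingleton (PrimeSpectrum k))
  rw [← Subsingleton.elim (g.left t) (IsLocalRing.closedPoint k), ← deg_pullPc g, pullPc_comp,
    LineDesc.Rig.XTmap_fst]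

/-- With enough rational points the degree zero functor is representable. -/
theorem exists_rep0 (hdim : topologicalKrullDim X = 1)
    {N : ℕ} (hN : 2 * Curv2.genus k X < N) (P : Fin N → (Spec (CommRingCat.of k) ⟶ X))
    (hP : ∀ i, P i ≫ X ↘ Spec (CommRingCat.of k) = 𝟙 _) (hPi : Function.Injective P) :
    ∃ J : Over (Spec (CommRingCat.of k)), Nonempty ((funct0 (X ↘ Spec (CommRingCat.of k)) σ hσ).RepresentableBy J) ∧
      LocallyOfFiniteType J.hom := by
  obtain ⟨H, ξ, hH, hHlft⟩ := HilbDLib.exists_universal_lft (f := X ↘ Spec (CommRingCat.of k)) (d := Curv2.genus k X)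
    fun s x _ => exists_affine_points k X hdim x
  haveI : LocallyOfFiniteType H.hom := hHlft inferInstance
  let U := divPc ξ
  let H₀ : H.left.Opens := goodLocus (PicF.XTproj (X ↘ Spec (CommRingCat.of k)) H) U
  let Z : Over (Spec (CommRingCat.of k)) := Over.mk (H₀.ι ≫ H.hom)
  let j : Z ⟶ H := Over.homMk H₀.ι rfl
  let cT : ∀ (T : Over (Spec (CommRingCat.of k))), Pc X → Pc (PicF.XT (X ↘ Spec (CommRingCat.of k)) T) :=
    fun T c => pullPc (pullback.fst (X ↘ Spec (CommRingCat.of k)) T.hom) c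
  have hcT : ∀ {T T' : Over (Spec (CommRingCat.of k))} (g : T' ⟶ T) (c : Pc X),
      pullPc (PicF.XTmap (X ↘ Spec (CommRingCat.of k)) g) (cT T c) = cT T' c := fun g c => by
    show pullPc _ (pullPc _ c) = pullPc _ c
    rw [pullPc_comp, LineDesc.Rig.XTmap_fst]
  have hgood : ∀ {T : Over (Spec (CommRingCat.of k))} (q : T ⟶ Z) (t : T.left),
      Good (PicF.XTproj (X ↘ Spec (CommRingCat.of k)) T) (pullPc (PicF.XTmap (X ↘ Spec (CommRingCat.of k)) (q ≫ j)) U) t :=
    fun q t => by
      rw [good_pull (q ≫ j) U t]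
      exact (q.left t).2
  choose dc hdc using deg_const (X := X) (k := k)
  let ι := Shrink.{u} {c : Pc X // dc c = Curv2.genus k X}
  let cls : ι → Pc X := fun i => ((equivShrink {c : Pc X // dc c = Curv2.genus k X}).symm i).1
  have hmem : ∀ i : ι, pullPc (PicF.XTmap (X ↘ Spec (CommRingCat.of k)) j) U * (cT Z (cls i))⁻¹ ∈
      PZ (X ↘ Spec (CommRingCat.of k)) Z := fun i => mem_PZ.2 fun z => by
    have h := hgood (𝟙 Z) z
    rw [Category.id_comp] at h
    rw [deg_mul', deg_inv', deg_of_good h, hdc (cls i) Z z,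
      ((equivShrink {c : Pc X // dc c = Curv2.genus k X}).symm i).2]
    ring
  let e : ι → (funct0 (X ↘ Spec (CommRingCat.of k)) σ hσ).obj (op Z) := fun i =>
    elt0 (rho (X ↘ Spec (CommRingCat.of k)) σ hσ
      (pullPc (PicF.XTmap (X ↘ Spec (CommRingCat.of k)) j) U * (cT Z (cls i))⁻¹)) (rho_mem_RZ (hmem i))
  have hval : ∀ (i : ι) {T : Over (Spec (CommRingCat.of k))} (q : T ⟶ Z),
      val0 ((funct0 (X ↘ Spec (CommRingCat.of k)) σ hσ).map q.op (e i)) =
        rho (X ↘ Spec (CommRingCat.of k)) σ hσ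
          (pullPc (PicF.XTmap (X ↘ Spec (CommRingCat.of k)) (q ≫ j)) U * (cT T (cls i))⁻¹) := fun i T q => by
    rw [val0_map, val0_elt0, pull_rho, map_mul, map_inv, hcT, pullPc_comp, LineDesc.Rig.XTmap_comp]
  let O : ∀ (i : ι) (T : Over (Spec (CommRingCat.of k))), (funct0 (X ↘ Spec (CommRingCat.of k)) σ hσ).obj (op T) → T.left.Opens :=
    fun i T x => goodLocus (PicF.XTproj (X ↘ Spec (CommRingCat.of k)) T) (val0 x * cT T (cls i))
  have hO : ∀ (i : ι) (T : Over (Spec (CommRingCat.of k))) (x : (funct0 (X ↘ Spec (CommRingCat.of k)) σ hσ).obj (op T))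
      (T' : Over (Spec (CommRingCat.of k))) (t : T' ⟶ T), Set.range t.left ⊆ O i T x ↔
        ∃ q : T' ⟶ Z, (funct0 (X ↘ Spec (CommRingCat.of k)) σ hσ).map q.op (e i) = (funct0 (X ↘ Spec (CommRingCat.of k)) σ hσ).map t.op x :=
    fun i T x T' t => by
      have hw : pullPc (PicF.XTmap (X ↘ Spec (CommRingCat.of k)) t) (val0 x * cT T (cls i)) =
          val0 ((funct0 (X ↘ Spec (CommRingCat.of k)) σ hσ).map t.op x) * cT T' (cls i) := by
        rw [map_mul, hcT, val0_map]
      constructor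
      · intro ht
        have hg : ∀ t', Good (PicF.XTproj (X ↘ Spec (CommRingCat.of k)) T')
            (val0 ((funct0 (X ↘ Spec (CommRingCat.of k)) σ hσ).map t.op x) * cT T' (cls i)) t' := fun t' => by
          rw [← hw, good_pull t]
          exact ht ⟨t', rfl⟩
        obtain ⟨I, m, hI⟩ := exists_div (γ₀ := Curv2.genus k X) (euler_fibre k X hdim) _ hg
        obtain ⟨q₀, hq₀, -⟩ := hH T' I
        have hU : pullPc (PicF.XTmap (X ↘ Spec (CommRingCat.of k)) q₀) U = divPc I := by
          refine (pull_divPc q₀ ξ).trans (congrArg divPc (Subtype.ext ?_))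
          exact hq₀
        have hin : ∀ t', q₀.left t' ∈ H₀ := fun t' => by
          show Good _ _ _
          rw [← good_pull q₀ U t', hU, hI]
          exact (good_mul_base _ _ m t').2 (hg t')
        let q : T' ⟶ Z := Over.homMk (IsOpenImmersion.lift H₀.ι q₀.left (by
            rintro _ ⟨t', rfl⟩
            exact ⟨⟨_, hin t'⟩, rfl⟩)) (by
          show IsOpenImmersion.lift _ _ _ ≫ H₀.ι ≫ H.hom = T'.hom
          rw [IsOpenImmersion.lift_fac_assoc]
          exact Over.w q₀)
        have hqj : q ≫ j = q₀ := Over.OverMorphism.ext (IsOpenImmersion.lift_fac _ _ _)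
        refine ⟨q, val0_injective ?_⟩
        rw [hval, hqj, hU, hI, mul_right_comm, mul_inv_cancel_right, rho_mul_base, rho_eq_self (val0_mem _).1]
      · rintro ⟨q, hq⟩ _ ⟨t', rfl⟩
        show Good _ _ _
        rw [← good_pull t, hw]
        have h1 := (congrArg val0 hq).trans
          (rho_eq_self (val0_mem ((funct0 (X ↘ Spec (CommRingCat.of k)) σ hσ).map t.op x)).1).symm
        rw [hval] at h1
        obtain ⟨m, hm⟩ := rho_eq_iff.1 h1
        have h2 : pullPc (PicF.XTmap (X ↘ Spec (CommRingCat.of k)) (q ≫ j)) U =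
            val0 ((funct0 (X ↘ Spec (CommRingCat.of k)) σ hσ).map t.op x) * cT T' (cls i) *
              pullPc (PicF.XTproj (X ↘ Spec (CommRingCat.of k)) T') m := by
          rw [mul_right_comm, ← hm, inv_mul_cancel_right]
        exact (good_mul_base _ _ m t').1 (h2 ▸ hgood q t')
  have hinj : ∀ (i : ι) (T : Over (Spec (CommRingCat.of k))) (q q' : T ⟶ Z),
      (funct0 (X ↘ Spec (CommRingCat.of k)) σ hσ).map q.op (e i) = (funct0 (X ↘ Spec (CommRingCat.of k)) σ hσ).map q'.op (e i) → q = q' :=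
    fun i T q q' hq => by
      have h1 := congrArg val0 hq
      rw [hval, hval] at h1
      obtain ⟨m, hm⟩ := rho_eq_iff.1 h1.symm
      have h2 : pullPc (PicF.XTmap (X ↘ Spec (CommRingCat.of k)) (q' ≫ j)) U =
          pullPc (PicF.XTmap (X ↘ Spec (CommRingCat.of k)) (q ≫ j)) U *
            pullPc (PicF.XTproj (X ↘ Spec (CommRingCat.of k)) T) m := by
        rw [mul_right_comm] at hm
        exact mul_right_cancel hm
      rw [pull_divPc, pull_divPc] at h2
      have h3 := div_unique (d := Curv2.genus k X) _ _ (fun t => by rw [← pull_divPc]; exact hgood q t) h2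
      have h4 : q ≫ j = q' ≫ j := by
        obtain ⟨g, -, hg⟩ := hH T ⟨_, HilbDLib.isFinLocFreeOfDeg_pull (X ↘ Spec (CommRingCat.of k)) (q ≫ j) ξ.1 ξ.2⟩
        exact (hg _ rfl).trans (hg _ (congrArg Subtype.val h3).symm).symm
      refine Over.OverMorphism.ext ?_
      haveI : Mono H₀.ι := inferInstance
      exact (cancel_mono H₀.ι).1 (congrArg CommaMorphism.left h4)
  have hcov : ∀ (T : Over (Spec (CommRingCat.of k))) (x : (funct0 (X ↘ Spec (CommRingCat.of k)) σ hσ).obj (op T)) (p : T.left), ∃ i, p ∈ O i T x :=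
    fun T x p => by
      obtain ⟨c, hc⟩ := exists_twist_good0 hdim σ hσ hN P hP hPi (val0 x) (val0_mem x).2 p
      have hdeg : dc c = Curv2.genus k X := by
        have h1 := deg_of_good hc
        rw [deg_mul', hdc c T p, mem_PZ.1 (val0_mem x).2 p, zero_add] at h1
        exact h1
      refine ⟨equivShrink {c : Pc X // dc c = Curv2.genus k X} ⟨c, hdeg⟩, ?_⟩
      show Good _ (val0 x * cT T ((equivShrink {c : Pc X // dc c = Curv2.genus k X}).symm
        (equivShrink {c : Pc X // dc c = Curv2.genus k X} ⟨c, hdeg⟩)).1) p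
      rw [Equiv.symm_apply_apply]
      exact hc
  obtain ⟨J, ⟨r⟩⟩ := OverRep.exists_representableBy (F := (funct0 (X ↘ Spec (CommRingCat.of k)) σ hσ))
    (isSheaf_funct0 (bijective_appTop_snd' k X)) (fun _ : ι => Z) e O hO hinj hcov
  exact ⟨J, ⟨r⟩, OverRep.locallyOfFiniteType_of_charts r (fun _ : ι => Z) e O hO hinj hcov
    fun _ => inferInstanceAs (LocallyOfFiniteType (H₀.ι ≫ H.hom))⟩

end Groth.Agent.PicRep
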