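import Groth.Agent.PicRep.Bridge
import Groth.Agent.PicRep.Rep0
import Groth.Agent.PicRep.Pts
import Groth.Agent.Lib.AVProj
import Groth.Agent.AmpleX.FiniteSet
import Groth.Agent.AlgStLib.Noetherian
import Mathlib.AlgebraicGeometry.Morphisms.LocalFlatDescent

/-!
# The Jacobian of a curve with a rational point over an arbitrary field
-/

set_option autoImplicit false
set_option maxHeartbeats 1600000
set_option linter.style.haveILetI false
set_option linter.unusedSectionVars false
set_option backward.isDefEq.respectTransparency false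
set_option backward.isDefEq.respectTransparency.types false

universe u

open CategoryTheory CategoryTheory.Limits AlgebraicGeometry TopologicalSpace Opposite

noncomputable section

namespace Groth.Agent.PicRep

open Groth.Agent

attribute [local instance] GenusOneX.fibreOver GenusOneX.flat_of_family GenusOneX.lfp_of_family

variable {k : Type u} [Field k] {X : Scheme.{u}} [X.Over (Spec (CommRingCat.of k))]
  [IsProper (X ↘ Spec (CommRingCat.of k))]
  [SmoothOfRelativeDimension 1 (X ↘ Spec (CommRingCat.of k))]
  [GeometricallyConnected (X ↘ Spec (CommRingCat.of k))]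

/-- Finite sets of an abelian variety lie in affine opens. -/
theorem exists_affine_finite {K : Type u} [Field K] (A : Over (Spec (CommRingCat.of K))) [GrpObj A] [IsProper A.hom]
    [GeometricallyIntegral A.hom] {d : ℕ} (x : Fin d → A.left) :
    ∃ U : A.left.Opens, IsAffineOpen U ∧ ∀ j, x j ∈ U := by
  obtain ⟨L, hL⟩ := AVProj.exists_isAmple (X := A)
  haveI : A.left.IsSeparated := ⟨by rw [← Limits.terminal.comp_from A.hom]; infer_instance⟩
  obtain ⟨n, s, hs, -, hU⟩ := AmpleX.exists_finite_nhd hL (Set.finite_range x) (U := ⊤) (fun _ _ => trivial)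
  exact ⟨_, hU, fun j => hs ⟨j, rfl⟩⟩

variable (σ : Spec (CommRingCat.of k) ⟶ X) (hσ : σ ≫ X ↘ Spec (CommRingCat.of k) = 𝟙 _)

/-- The degree zero part is represented by an abelian variety. -/
theorem exists_jacobian (hdim : topologicalKrullDim X = 1) :
    ∃ J : Over (Spec (CommRingCat.of k)),
      Nonempty ((funct0 (X ↘ Spec (CommRingCat.of k)) σ hσ).RepresentableBy J) ∧
      IsProper J.hom ∧ Smooth J.hom ∧ GeometricallyConnected J.hom ∧ GeometricallyIntegral J.hom := by
  haveI : Smooth (X ↘ Spec (CommRingCat.of k)) := SmoothOfRelativeDimension.smooth (n := 1) _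
  have hO := CurveBC.finrank_h0_of_geometricallyConnected k X
  haveI := CurveBC.isIntegral_of_h0 k X hO
  obtain ⟨k', _, _, _, P₀, hP₀, hP₀i⟩ := exists_points X (X ↘ Spec (CommRingCat.of k)) hdim (2 * Curv2.genus k X + 1)
  let f := X ↘ Spec (CommRingCat.of k)
  let q : Spec (CommRingCat.of k') ⟶ Spec (CommRingCat.of k) := Spec.map (CommRingCat.ofHom (algebraMap k k'))
  letI : (pullback f q).Over (Spec (CommRingCat.of k')) := ⟨bcf f q⟩
  haveI : IsProper (pullback f q ↘ Spec (CommRingCat.of k')) := inferInstanceAs (IsProper (bcf f q))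
  haveI : SmoothOfRelativeDimension 1 (pullback f q ↘ Spec (CommRingCat.of k')) :=
    inferInstanceAs (SmoothOfRelativeDimension 1 (bcf f q))
  haveI : GeometricallyConnected (pullback f q ↘ Spec (CommRingCat.of k')) :=
    inferInstanceAs (GeometricallyConnected (bcf f q))
  have hpb : IsPullback (pullback.fst f q) (pullback f q ↘ Spec (CommRingCat.of k')) (X ↘ Spec (CommRingCat.of k))
      (Spec.map (CommRingCat.ofHom (algebraMap k k'))) := IsPullback.of_hasPullback f q
  haveI : QuasiSeparatedSpace X := quasiSeparatedSpace_of_quasiSeparated (X ↘ Spec (CommRingCat.of k))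
  haveI := QuasiCompact.compactSpace_of_compactSpace (X ↘ Spec (CommRingCat.of k))
  have hdim' := CurveBC.topologicalKrullDim_eq k k' (pullback.fst f q) hpb hdim
  have hgen := CurveBC.genus_eq k k' (pullback.fst f q) hpb
  let P : Fin (2 * Curv2.genus k X + 1) → (Spec (CommRingCat.of k') ⟶ pullback f q) := fun i =>
    pullback.lift (P₀ i) (𝟙 _) (by rw [Category.id_comp]; exact hP₀ i)
  obtain ⟨A, ⟨r⟩, hAlft⟩ := exists_rep0 (X := pullback f q) (σ := bcσ f q σ hσ) (hσ := bcσ_fac f q σ hσ) hdim'
    (N := 2 * Curv2.genus k X + 1) (by rw [hgen]; omega) P (fun i => pullback.lift_snd _ _ _)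
    (fun i j h => hP₀i (by simpa [P] using congrArg (· ≫ pullback.fst f q) h))
  haveI := hAlft
  haveI hAfp : LocallyOfFinitePresentation A.hom :=
    AlgStLib.locallyOfFinitePresentation_of_isLocallyNoetherian A.hom ‹_›
  obtain ⟨hAp, -, -, hAi⟩ := isAbelian_of_rep r
  letI := commGrpObj r
  haveI := hAp; haveI := hAi
  -- descent
  haveI hqf : IsFinite q := by
    rw [IsFinite.SpecMap_iff]; exact RingHom.finite_algebraMap.2 inferInstance
  haveI : Flat q := by
    rw [Flat.SpecMap_iff]; exact RingHom.flat_algebraMap_iff.2 inferInstance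
  haveI : LocallyOfFinitePresentation q := by
    haveI : Module.FinitePresentation k k' := Module.finitePresentation_of_projective _ _
    rw [LocallyOfFinitePresentation.SpecMap_iff]; exact RingHom.finitePresentation_algebraMap.2 inferInstance
  haveI : Surjective q := ⟨fun p => ⟨IsLocalRing.closedPoint k', @Subsingleton.elim (PrimeSpectrum k) _ _ _⟩⟩
  have ha := bijective_appTop_snd' k X
  obtain ⟨J, ⟨rJ⟩⟩ := DescRep.exists_representableBy q (funct0 f σ hσ) A (eltS r) (existsUnique_eltS r)
    (existsUnique_descend ha) ⟨inferInstance, inferInstance, inferInstance⟩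
    (fun s d x _ => exists_affine_finite A x)
  refine ⟨J, ⟨rJ⟩, ?_⟩
  -- `J` pulled back is `A`
  let G : (Over (Spec (CommRingCat.of k')))ᵒᵖ ⥤ Type u := (Over.map q).op ⋙ funct0 f σ hσ
  let rA : G.RepresentableBy A :=
    { homEquiv := fun {T} => Equiv.ofBijective (fun g => (funct0 f σ hσ).map ((Over.map q).map g).op (eltS r))
        ⟨fun g g' h => (existsUnique_eltS r T _).unique rfl h.symm, fun x => (existsUnique_eltS r T x).exists⟩
      homEquiv_comp := fun g g' => by
        show (funct0 f σ hσ).map ((Over.map q).map (g ≫ g')).op (eltS r) = _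
        rw [Functor.map_comp, op_comp, Functor.map_comp_apply]
        rfl }
  let rP : G.RepresentableBy ((Over.pullback q).obj J) :=
    { homEquiv := fun {T} => ((Over.mapPullbackAdj q).homEquiv T J).symm.trans rJ.homEquiv
      homEquiv_comp := fun {T T'} g g' => by
        show rJ.homEquiv (((Over.mapPullbackAdj q).homEquiv T J).symm (g ≫ g')) =
          (funct0 f σ hσ).map ((Over.map q).map g).op (rJ.homEquiv (((Over.mapPullbackAdj q).homEquiv T' J).symm g'))
        rw [Adjunction.homEquiv_naturality_left_symm, rJ.homEquiv_comp] }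
  let i := rP.uniqueUpToIso rA
  haveI : LocallyOfFinitePresentation (pullback.snd J.hom q) := by
    rw [show pullback.snd J.hom q = i.hom.left ≫ A.hom from (Over.w i.hom).symm]
    infer_instance
  haveI : LocallyOfFinitePresentation J.hom :=
    MorphismProperty.of_isPullback_of_descendsAlong (P := @LocallyOfFinitePresentation)
      (IsPullback.of_hasPullback J.hom q).flip
      (show (@Surjective ⊓ @Flat ⊓ @QuasiCompact : MorphismProperty Scheme) q from
        ⟨⟨inferInstance, inferInstance⟩, inferInstance⟩) inferInstance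
  exact isAbelian_of_rep rJ

end Groth.Agent.PicRep
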