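import Groth.Agent.PicRep.Good
import Groth.Agent.GenusOneX.Group
import Groth.Agent.HilbDLib.Rep
import Groth.Agent.S1184

/-!
# Divisors and their classes
-/

set_option autoImplicit false
set_option maxHeartbeats 1600000
set_option linter.style.haveILetI false
set_option linter.unusedSectionVars false
set_option backward.isDefEq.respectTransparency false
set_option backward.isDefEq.respectTransparency.types false

universe u

open CategoryTheory CategoryTheory.Limits AlgebraicGeometry TopologicalSpace Opposite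

noncomputable section

namespace Groth.Agent.PicRep

open Groth.Agent
open Groth.Agent.JacVarLib (Pc pullPc pullPc_val pullPc_comp ext_val out cl_out isInvertible_out)
open scoped Groth.Agent.H23.PicMul

section Fam

variable {E T : Scheme.{u}} (q : E ⟶ T) [IsProper q]

theorem good_congr {v w : Pc E} {t : T} (h : pullPc (q.fiberι t) v = pullPc (q.fiberι t) w) :
    Good q v t ↔ Good q w t := by
  letI : (q.fiber t).Over (Spec (CommRingCat.of (T.residueField t))) := ⟨q.fiberToSpecResidueField t⟩
  haveI : IsProper ((q.fiber t) ↘ Spec (CommRingCat.of (T.residueField t))) := HilbFib.isProper_fibre q t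
  have hc : PicF.cl ((Scheme.Modules.pullback (q.fiberι t)).obj (out v)) =
      PicF.cl ((Scheme.Modules.pullback (q.fiberι t)).obj (out w)) := by
    show PicF.pullCl _ (PicF.cl (out v)) = PicF.pullCl _ (PicF.cl (out w))
    rw [cl_out, cl_out, ← pullPc_val, ← pullPc_val, h]
  obtain ⟨e⟩ := H23.PicMul.cl_eq_iff.1 hc
  have h1 : PerfAux.eulerChar q (out v) t = PerfAux.eulerChar q (out w) t :=
    CurveCohLib.euler_congr (k := T.residueField t) e
  have h2 : PerfAux.betti q (out v) t 1 = PerfAux.betti q (out w) t 1 :=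
    (CurveCohLib.hhEquiv (k := T.residueField t) e 1).finrank_eq
  unfold Good
  rw [h1, h2]

/-- Twisting by a class from the base does not change the fibres. -/
theorem good_mul_base (v : Pc E) (m : Pc T) (t : T) : Good q (v * pullPc q m) t ↔ Good q v t := by
  refine good_congr q ?_
  rw [map_mul, pullPc_comp, q.fiber_fac t, ← pullPc_comp]
  have h : pullPc (T.fromSpecResidueField t) m = 1 := by
    obtain ⟨e⟩ := GenusOneX.nonempty_iso_one (PicClLib.isInvertible_pullback (T.fromSpecResidueField t) (isInvertible_out m))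
      (IsLocalRing.closedPoint (T.residueField t))
    refine ext_val ?_
    rw [pullPc_val, ← cl_out]
    exact H23.PicMul.cl_eq_iff.2 ⟨e⟩
  rw [h, map_one, mul_one]

end Fam

variable {X S : Scheme.{u}} {f : X ⟶ S} [IsProper f] [SmoothOfRelativeDimension 1 f] [GeometricallyConnected f]

theorem good_pull {T T' : Over S} (g : T' ⟶ T) (v : Pc (PicF.XT f T)) (t' : T'.left) :
    Good (PicF.XTproj f T') (pullPc (PicF.XTmap f g) v) t' ↔ Good (PicF.XTproj f T) v (g.left t') := by
  have hcl : PicF.cl ((Scheme.Modules.pullback (PicF.XTmap f g)).obj (out v)) =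
      (pullPc (PicF.XTmap f g) v).1.val := by
    rw [pullPc_val, ← cl_out]; rfl
  have hv := ProjUPX.isQCoh_of_isInvertible (isInvertible_out v)
  unfold Good
  rw [eulerChar_cl _ hcl, betti_cl _ hcl]
  have h1 : PerfAux.eulerChar (PicF.XTproj f T') ((Scheme.Modules.pullback (PicF.XTmap f g)).obj (out v)) t' =
      PerfAux.eulerChar (PicF.XTproj f T) (out v) (g.left t') :=
    HilbFib.χ_baseChange (LineDesc.Rig.isPullback_XTmap g) hv t'
  rw [h1, betti_baseChange (LineDesc.Rig.isPullback_XTmap g) hv t' 1]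

variable {d : ℕ}

theorem isEffCartier_obj {T : Over S} (I : HilbD.Obj f d T) : BlowUp.IsEffCartierIdeal I.1 :=
  ((S1184.result (PicF.XTproj f T) I.1).2 I.2.1).1

theorem isInvertible_obj {T : Over S} (I : HilbD.Obj f d T) : PicF.IsInvertible (ClSub.idealMod I.1) :=
  (S8914.result _).2 (isEffCartier_obj I)

/-- The class of a divisor. -/
def divPc {T : Over S} (I : HilbD.Obj f d T) : Pc (PicF.XT f T) :=
  (toPc (PicF.cl (ClSub.idealMod I.1)) ⟨_, rfl, isInvertible_obj I⟩)⁻¹

theorem pull_divPc {T T' : Over S} (g : T' ⟶ T) (I : HilbD.Obj f d T) :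
    pullPc (PicF.XTmap f g) (divPc I) =
      divPc (⟨HilbD.pull f g I.1, HilbDLib.isFinLocFreeOfDeg_pull f g I.1 I.2⟩ : HilbD.Obj f d T') := by
  rw [divPc, divPc, map_inv]
  refine congrArg (·⁻¹) (ext_val ?_)
  rw [pullPc_val, toPc_val, toPc_val]
  have hI' := isInvertible_obj (⟨HilbD.pull f g I.1, HilbDLib.isFinLocFreeOfDeg_pull f g I.1 I.2⟩ : HilbD.Obj f d T')
  obtain ⟨e⟩ := CurveAlgEqLib.nonempty_pullback_idealMod (PicF.XTmap f g) (isInvertible_obj I)
    (by rw [← HilbDLib.pull_eq_comap]; exact hI')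
  show PicF.cl ((Scheme.Modules.pullback (PicF.XTmap f g)).obj (ClSub.idealMod I.1)) = _
  rw [show PicF.cl (ClSub.idealMod (HilbD.pull f g I.1)) = PicF.cl (ClSub.idealMod (I.1.comap (PicF.XTmap f g))) by
    rw [HilbDLib.pull_eq_comap]]
  exact H23.PicMul.cl_eq_iff.2 ⟨e⟩

attribute [local instance] GenusOneX.fibreOver GenusOneX.flat_of_family GenusOneX.lfp_of_family

variable {γ₀ : ℕ}
  (hO : ∀ (T : Over S) (t : T.left), Curv2.euler (T.left.residueField t) ((PicF.XTproj f T).fiber t)
    (Coh.structureModule ((PicF.XTproj f T).fiber t)) = 1 - (γ₀ : ℤ))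

include hO in
/-- A class good on all fibres comes from a divisor, up to the base. -/
theorem exists_div {T : Over S} (v : Pc (PicF.XT f T)) (h : ∀ t, Good (PicF.XTproj f T) v t) :
    ∃ (I : HilbD.Obj f γ₀ T) (m : Pc T.left), divPc I = v * pullPc (PicF.XTproj f T) m := by
  let q := PicF.XTproj f T
  have h1 := hasOneSection_of_good q h
  obtain ⟨Z, hC, -, hdeg, ⟨e⟩⟩ := exists_divisor h1 γ₀ fun t => by
    haveI := GenusOneX.fibre_isProper q t
    have hχ : Curv2.euler (T.left.residueField t) (q.fiber t)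
        ((Scheme.Modules.pullback (q.fiberι t)).obj (out v)) = 1 := (h t).1
    have hd : Curv2.deg (T.left.residueField t) (q.fiber t)
        ((Scheme.Modules.pullback (q.fiberι t)).obj (out v)) 1 = 1 - (1 - (γ₀ : ℤ)) := by
      unfold Curv2.deg
      rw [hχ, hO T t]
      push_cast
      ring
    rw [hd]; ring
  refine ⟨⟨Z, hdeg⟩, (toPc _ ⟨_, rfl, isInvertible_push h1⟩)⁻¹, ?_⟩
  have key : pullPc q (toPc _ ⟨_, rfl, isInvertible_push h1⟩) =
      toPc (PicF.cl (ClSub.idealMod Z)) ⟨_, rfl, (S8914.result _).2 hC⟩ * v := by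
    refine ext_val ?_
    rw [pullPc_val, toPc_val, Subgroup.coe_mul, Units.val_mul, toPc_val, ← cl_out v]
    exact (H23.PicMul.cl_eq_iff.2 ⟨e⟩).trans (H23.PicMul.cl_tensor _ _)
  rw [map_inv, key, divPc, mul_inv_rev, ← mul_assoc, mul_inv_cancel, one_mul]

/-- Good divisors with the same class modulo the base are equal. -/
theorem div_unique {T : Over S} (I J : HilbD.Obj f d T) (hI : ∀ t, Good (PicF.XTproj f T) (divPc I) t)
    {m : Pc T.left} (hm : divPc J = divPc I * pullPc (PicF.XTproj f T) m) : I = J := by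
  let q := PicF.XTproj f T
  have h1 := hasOneSection_of_good q hI
  obtain ⟨Z, hZ⟩ := ZeroMapX.exists_isZeroIdeal (GenusOneX.ev q (out (divPc I)))
    (PicClLib.isInvertible_pullback q (isInvertible_push h1)) h1.inv
  have key : ∀ (K : HilbD.Obj f d T) (n : Pc T.left), divPc K = divPc I * pullPc q n → K.1 = Z := by
    intro K n hn
    haveI : IsFinite (K.1.subschemeι ≫ q) := K.2.1.1
    obtain ⟨i⟩ : Nonempty ((Scheme.Modules.pullback q).obj (out n⁻¹) ≅
        CohB1.tensorMod (ClSub.idealMod K.1) (out (divPc I))) := H23.PicMul.cl_eq_iff.1 (by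
      rw [H23.PicMul.cl_tensor, cl_out]
      show PicF.pullCl q (PicF.cl (out n⁻¹)) = _
      rw [cl_out, ← pullPc_val]
      have e : pullPc q n⁻¹ = (divPc K)⁻¹ * divPc I := by rw [hn, map_inv]; group
      rw [e, divPc, inv_inv, Subgroup.coe_mul, Units.val_mul, toPc_val])
    exact eq_zeroIdeal h1 hZ (isInvertible_obj K) (isInvertible_out _) i
  refine Subtype.ext ((key I 1 ?_).trans (key J m hm).symm)
  rw [map_one, mul_one]

end Groth.Agent.PicRep
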