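import Groth.Agent.S10964
import Groth.Agent.JacVarLib.Open

/-!
# The invertible classes of a scheme form a small set
-/

set_option autoImplicit false
set_option backward.isDefEq.respectTransparency false
set_option backward.isDefEq.respectTransparency.types false

universe u

open CategoryTheory AlgebraicGeometry TopologicalSpace

namespace Groth.Agent.PicRep

open Groth.Agent InvX AModX

theorem small_invertibleCl (Y : Scheme.{u}) : Small.{u} {c : PicF.Cl Y // PicF.IsInvertibleCl c} := by
  classical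
  let D : Type u := Σ U : Y → Y.Opens, ∀ x y, Γ(Y, U x ⊓ U y)
  let L : {c : PicF.Cl Y // PicF.IsInvertibleCl c} → Y.Modules := fun c => c.2.choose
  have hL : ∀ c, PicF.cl (L c) = c.1 ∧ PicF.IsInvertible (L c) := fun c => c.2.choose_spec
  have hU : ∀ c (x : Y), ∃ U : Y.Opens, x ∈ U ∧ ∃ e : Γ(L c, U), IsFrame e := fun c x => by
    obtain ⟨U, hx, e, he⟩ := exists_frame (hL c).2 x
    exact ⟨U, hx, e, he⟩
  choose U hx e he using hU
  have hη : ∀ c x y, ∃ r : Γ(Y, U c x ⊓ U c y),
      res (L c) inf_le_left (e c x) = r • res (L c) (inf_le_right : U c x ⊓ U c y ≤ U c y) (e c y) :=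
    fun c x y => (he c y).exists_coord inf_le_right _
  choose η hη using hη
  let ψ : {c : PicF.Cl Y // PicF.IsInvertibleCl c} → D := fun c => ⟨U c, η c⟩
  refine small_of_injective (f := ψ) fun c c' h => ?_
  obtain ⟨hUU, hηη⟩ := Sigma.mk.inj h
  refine Subtype.ext ?_
  rw [← (hL c).1, ← (hL c').1]
  refine Quot.sound ?_
  -- transport the frames of `c'` to the cover of `c`
  have key : ∀ (U' : Y → Y.Opens) (e' : ∀ x, Γ(L c', U' x)) (η' : ∀ x y, Γ(Y, U' x ⊓ U' y)),
      (∀ x, IsFrame (e' x)) → (∀ x y, res (L c') inf_le_left (e' x) =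
        η' x y • res (L c') (inf_le_right : U' x ⊓ U' y ≤ U' y) (e' y)) →
      U c = U' → HEq (η c) η' → Nonempty (L c ≅ L c') := by
    intro U' e' η' he' hη' hU' hηe
    subst hU'
    obtain rfl := eq_of_heq hηe
    refine (S10964.result Y (U c) (eq_top_iff.2 fun x _ => Opens.mem_iSup.2 ⟨x, hx c x⟩) (L c) (L c')
      (e c) e' (he c) he' (η c) (η c) (hη c) hη').2 ⟨fun _ => 1, fun i j => ?_⟩
    simp
  exact key (U c') (e c') (η c') (he c') (hη c') hUU hηη

end Groth.Agent.PicRep
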